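import Mathlib
import Cfsg.Agent.Lib.ZStar.Principal
import Cfsg.Agent.Lib.ZStar.Sections
import Cfsg.Agent.Lib.Transfer.Fusion
import Cfsg.Agent.Lib.Transfer.NormalPComplement
import Cfsg.Agent.BlockCharsA.RegularPart

/-!
# Dihedral Sylow 2-subgroups: the centralizer of the central involution

`C(J)` retracts onto the Sylow subgroup with kernel of odd order; this governs the fusion and the
centralizers of the powers of the rotation.
-/

set_option autoImplicit false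
set_option linter.style.haveILetI false
set_option linter.unusedSectionVars false

namespace Cfsg.Agent.CharTheory.DihedralPrincipal

open Cfsg.Agent.Blocks Cfsg.Agent.Characters

universe u

variable {G : Type u} [Group G] [Finite G]

/-- A dihedral Sylow `2`-subgroup of order `4 m` with rotation `σ` and reflection `τ`. -/
structure DihSylow (P : Sylow 2 G) (σ τ : G) (m : ℕ) : Prop where
  σ_mem : σ ∈ (P : Subgroup G)
  τ_mem : τ ∈ (P : Subgroup G)
  order_σ : orderOf σ = 2 * m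
  τ_sq : τ * τ = 1
  rel : τ * σ * τ⁻¹ = σ⁻¹
  τ_notMem : τ ∉ Subgroup.zpowers σ
  even : 2 ∣ m
  m_pow : ∃ e : ℕ, m = 2 ^ e
  cases : ∀ x ∈ (P : Subgroup G), ∃ i : ℕ, x = σ ^ i ∨ x = σ ^ i * τ

theorem τ_notMem_of_rel {σ τ : G} {m : ℕ} (hm : 2 ≤ m) (ho : orderOf σ = 2 * m)
    (hrel : τ * σ * τ⁻¹ = σ⁻¹) : τ ∉ Subgroup.zpowers σ := by
  rintro ⟨k, rfl⟩
  have h : σ = σ⁻¹ := by
    rw [← hrel, ((Commute.refl σ).zpow_left k).eq, mul_inv_cancel_right]
  have h2 : σ ^ 2 = 1 := by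
    rw [pow_two]; nth_rewrite 2 [h]; exact mul_inv_cancel σ
  have := Nat.le_of_dvd (by norm_num) (orderOf_dvd_of_pow_eq_one h2)
  omega

theorem exists_cases_of_card {P : Subgroup G} {σ τ : G} {m : ℕ} (hσ : σ ∈ P) (hτ : τ ∈ P)
    (ho : orderOf σ = 2 * m) (hn : τ ∉ Subgroup.zpowers σ) (hc : Nat.card P = 4 * m) :
    ∀ x ∈ P, ∃ i : ℕ, x = σ ^ i ∨ x = σ ^ i * τ := by
  classical
  haveI := Fintype.ofFinite P
  intro x hx
  let f : Fin (2 * m) × Bool → P := fun w =>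
    if w.2 then ⟨σ ^ (w.1 : ℕ) * τ, mul_mem (pow_mem hσ _) hτ⟩ else ⟨σ ^ (w.1 : ℕ), pow_mem hσ _⟩
  have hinj : Function.Injective f := by
    rintro ⟨i, b⟩ ⟨j, c⟩ h
    have hij : ∀ {i j : Fin (2 * m)}, σ ^ (i : ℕ) = σ ^ (j : ℕ) → i = j := fun {i j} h =>
      Fin.ext (pow_injOn_Iio_orderOf (by rw [Set.mem_Iio, ho]; exact i.2)
        (by rw [Set.mem_Iio, ho]; exact j.2) h)
    have hne : ∀ {i j : ℕ}, σ ^ i ≠ σ ^ j * τ := fun {i j} h => hn (by
      rw [show τ = (σ ^ j)⁻¹ * σ ^ i by rw [h, inv_mul_cancel_left]]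
      exact mul_mem (inv_mem (pow_mem (Subgroup.mem_zpowers σ) j))
        (pow_mem (Subgroup.mem_zpowers σ) i))
    cases b <;> cases c <;> simp [f, Subtype.ext_iff] at h ⊢
    · exact hij h
    · exact hne h
    · exact hne h.symm
    · exact hij h
  have hsurj := ((Fintype.bijective_iff_injective_and_card f).2 ⟨hinj, by
    rw [← Nat.card_eq_fintype_card (α := P), hc]; simp; ring⟩).2
  obtain ⟨⟨i, b⟩, hw⟩ := hsurj ⟨x, hx⟩
  refine ⟨i, ?_⟩
  cases b <;> simp [f, Subtype.ext_iff] at hw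
  · exact Or.inl hw.symm
  · exact Or.inr hw.symm

theorem DihSylow.of_gens {P : Sylow 2 G} {n : ℕ} (hn : 3 ≤ n) {σ τ : G}
    (hσ : σ ∈ (P : Subgroup G)) (hτ : τ ∈ (P : Subgroup G)) (hσo : orderOf σ = 2 ^ (n - 1))
    (hτo : orderOf τ = 2) (hrel : τ * σ * τ⁻¹ = σ⁻¹)
    (hgen : Subgroup.closure ({σ, τ} : Set G) = (P : Subgroup G)) :
    DihSylow P σ τ (2 ^ (n - 2)) := by
  have hm : 2 ∣ 2 ^ (n - 2) := dvd_pow_self 2 (by omega)
  have ho : orderOf σ = 2 * 2 ^ (n - 2) := by rw [hσo, ← pow_succ']; congr 1; omega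
  have hτ2 : τ * τ = 1 := by rw [← pow_two, ← hτo, pow_orderOf_eq_one]
  have hτi : τ⁻¹ = τ := inv_eq_of_mul_eq_one_right hτ2
  refine ⟨hσ, hτ, ho, hτ2, hrel, τ_notMem_of_rel (Nat.le_of_dvd (by positivity) hm) ho hrel, hm,
    ⟨_, rfl⟩, fun x hx => ?_⟩
  have hswap : ∀ i : ℕ, τ * σ ^ i = (σ ^ i)⁻¹ * τ := fun i => by
    rw [← inv_pow, ← hrel, conj_pow, inv_mul_cancel_right]
  have hfin : ∀ z : ℤ, ∃ i : ℕ, σ ^ z = σ ^ i := fun z => by
    obtain ⟨i, hi⟩ := (mem_powers_iff_mem_zpowers).2 (zpow_mem (Subgroup.mem_zpowers σ) z)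
    exact ⟨i, hi.symm⟩
  rw [← hgen] at hx
  induction hx using Subgroup.closure_induction with
  | mem y hy =>
    rcases hy with rfl | hy
    · exact ⟨1, Or.inl (pow_one y).symm⟩
    · exact ⟨0, Or.inr (by rw [pow_zero, one_mul]; exact hy)⟩
  | one => exact ⟨0, Or.inl (pow_zero σ).symm⟩
  | mul y z _ _ hy hz =>
    obtain ⟨i, rfl | rfl⟩ := hy <;> obtain ⟨j, rfl | rfl⟩ := hz
    · exact ⟨i + j, Or.inl (pow_add _ _ _).symm⟩
    · exact ⟨i + j, Or.inr (by rw [← mul_assoc, ← pow_add])⟩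
    · obtain ⟨k, hk⟩ := hfin ((i : ℤ) - j)
      refine ⟨k, Or.inr ?_⟩
      rw [← hk, mul_assoc, hswap, ← mul_assoc, zpow_sub, zpow_natCast, zpow_natCast]
    · obtain ⟨k, hk⟩ := hfin ((i : ℤ) - j)
      refine ⟨k, Or.inl ?_⟩
      rw [← hk, mul_assoc, ← mul_assoc τ, hswap, mul_assoc _ τ τ, hτ2, mul_one, zpow_sub,
        zpow_natCast, zpow_natCast]
  | inv y _ hy =>
    obtain ⟨i, rfl | rfl⟩ := hy
    · obtain ⟨k, hk⟩ := hfin (-(i : ℤ))
      exact ⟨k, Or.inl (by rw [← hk, zpow_neg, zpow_natCast])⟩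
    · refine ⟨i, Or.inr ?_⟩
      rw [mul_inv_rev, hτi]
      have h := hswap i
      calc τ * (σ ^ i)⁻¹ = τ * (σ ^ i)⁻¹ * (τ * τ) := by rw [hτ2, mul_one]
        _ = τ * ((σ ^ i)⁻¹ * τ) * τ := by group
        _ = τ * (τ * σ ^ i) * τ := by rw [h]
        _ = σ ^ i * τ := by rw [← mul_assoc τ τ, hτ2, one_mul]

theorem DihSylow.of_iso {P : Sylow 2 G} {n : ℕ} (hn : 3 ≤ n)
    (hP : Nonempty ((P : Subgroup G) ≃* DihedralGroup (2 ^ (n - 1)))) {σ : G}
    (hσ : σ ∈ (P : Subgroup G)) (hσo : orderOf σ = 2 ^ (n - 1)) :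
    ∃ τ, DihSylow P σ τ (2 ^ (n - 2)) := by
  obtain ⟨e⟩ := hP
  have hm : 2 ∣ 2 ^ (n - 2) := dvd_pow_self 2 (by omega)
  have hm2 : 2 ≤ 2 ^ (n - 2) := Nat.le_of_dvd (by positivity) hm
  have h2m : 2 ^ (n - 1) = 2 * 2 ^ (n - 2) := by rw [← pow_succ']; congr 1; omega
  have ho : orderOf σ = 2 * 2 ^ (n - 2) := hσo.trans h2m
  have hs : orderOf (e ⟨σ, hσ⟩) = 2 ^ (n - 1) := by
    rw [MulEquiv.orderOf_eq, Subgroup.orderOf_mk, hσo]
  obtain ⟨i, hi⟩ : ∃ i, e ⟨σ, hσ⟩ = DihedralGroup.r i := by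
    cases h : e ⟨σ, hσ⟩ with
    | r i => exact ⟨i, rfl⟩
    | sr i => rw [h, DihedralGroup.orderOf_sr, h2m] at hs; omega
  set τ : G := ((e.symm (DihedralGroup.sr 0) : (P : Subgroup G)) : G)
  have hτ : τ ∈ (P : Subgroup G) := (e.symm _).2
  have heτ : e ⟨τ, hτ⟩ = DihedralGroup.sr 0 := e.apply_symm_apply _
  have hτ2 : τ * τ = 1 := by
    have : e (⟨τ, hτ⟩ * ⟨τ, hτ⟩) = e 1 := by
      rw [map_mul, heτ, DihedralGroup.sr_mul_self, map_one]
    exact congrArg Subtype.val (e.injective this)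
  have hrel : τ * σ * τ⁻¹ = σ⁻¹ := by
    have : e (⟨τ, hτ⟩ * ⟨σ, hσ⟩ * ⟨τ, hτ⟩⁻¹) = e ⟨σ, hσ⟩⁻¹ := by
      rw [map_mul, map_mul, map_inv, map_inv, heτ, hi]
      simp
    exact congrArg Subtype.val (e.injective this)
  have hnm := τ_notMem_of_rel hm2 ho hrel
  refine ⟨τ, hσ, hτ, ho, hτ2, hrel, hnm, hm, ⟨_, rfl⟩, exists_cases_of_card hσ hτ ho hnm ?_⟩
  haveI : NeZero (2 ^ (n - 1)) := ⟨by positivity⟩
  rw [Nat.card_congr e.toEquiv, DihedralGroup.nat_card, h2m]
  ring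

variable {P : Sylow 2 G} {σ τ : G} {m : ℕ}

namespace DihSylow

variable (h : DihSylow P σ τ m)
include h

theorem pos : 0 < m := by
  obtain ⟨e, rfl⟩ := h.m_pow; positivity

theorem two_le : 2 ≤ m := Nat.le_of_dvd h.pos h.even

theorem τ_inv : τ⁻¹ = τ := inv_eq_of_mul_eq_one_right h.τ_sq

theorem pow_inj {i j : ℕ} (hi : i < 2 * m) (hj : j < 2 * m) (e : σ ^ i = σ ^ j) : i = j :=
  pow_injOn_Iio_orderOf (h.order_σ ▸ hi) (h.order_σ ▸ hj) e

theorem pow_mod (i : ℕ) : σ ^ (i % (2 * m)) = σ ^ i := by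
  rw [← h.order_σ, pow_mod_orderOf]

theorem τ_conj (i : ℕ) : τ * σ ^ i * τ⁻¹ = (σ ^ i)⁻¹ := by
  rw [← conj_pow, h.rel, inv_pow]

theorem refl_ne (i : ℕ) : σ ^ i * τ ∉ Subgroup.zpowers σ := fun hm => h.τ_notMem (by
  have := mul_mem (inv_mem (pow_mem (Subgroup.mem_zpowers σ) i)) hm
  rwa [inv_mul_cancel_left] at this)

theorem refl_sq (i : ℕ) : σ ^ i * τ * (σ ^ i * τ) = 1 := by
  have e := h.τ_conj i
  rw [h.τ_inv] at e
  rw [mul_assoc, ← mul_assoc τ, e, mul_inv_cancel]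

theorem card_sylow : Nat.card (P : Subgroup G) = 4 * m := by
  classical
  haveI := Fintype.ofFinite (P : Subgroup G)
  let f : Fin (2 * m) × Bool → (P : Subgroup G) := fun w =>
    if w.2 then ⟨σ ^ (w.1 : ℕ) * τ, mul_mem (pow_mem h.σ_mem _) h.τ_mem⟩
      else ⟨σ ^ (w.1 : ℕ), pow_mem h.σ_mem _⟩
  have hbij : Function.Bijective f := by
    refine ⟨?_, fun x => ?_⟩
    · rintro ⟨i, b⟩ ⟨j, c⟩ e
      cases b <;> cases c <;> simp [f, Subtype.ext_iff] at e ⊢
      · exact Fin.ext (h.pow_inj i.2 j.2 e)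
      · exact h.refl_ne j (e ▸ pow_mem (Subgroup.mem_zpowers σ) _)
      · exact h.refl_ne i (e.symm ▸ pow_mem (Subgroup.mem_zpowers σ) _)
      · exact Fin.ext (h.pow_inj i.2 j.2 e)
    · obtain ⟨i, hi | hi⟩ := h.cases x x.2
      · exact ⟨(⟨i % (2 * m), Nat.mod_lt _ (by linarith [h.pos])⟩, false),
          Subtype.ext (by simp [f, hi, h.pow_mod])⟩
      · exact ⟨(⟨i % (2 * m), Nat.mod_lt _ (by linarith [h.pos])⟩, true),
          Subtype.ext (by simp [f, hi, h.pow_mod])⟩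
  rw [← Nat.card_congr (Equiv.ofBijective f hbij)]
  simp
  ring

theorem J_ne_one : σ ^ m ≠ 1 := fun e => by
  have := h.pow_inj (i := m) (j := 0) (by linarith [h.pos]) (by linarith [h.pos])
    (e.trans (pow_zero σ).symm)
  linarith [h.pos]

theorem J_sq : σ ^ m * σ ^ m = 1 := by
  rw [← pow_add, show m + m = orderOf σ by rw [h.order_σ]; ring, pow_orderOf_eq_one]

theorem orderOf_J : orderOf (σ ^ m) = 2 :=
  haveI := Fact.mk Nat.prime_two
  orderOf_eq_prime (by rw [pow_two]; exact h.J_sq) h.J_ne_one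

theorem commute_J {x : G} (hx : x ∈ (P : Subgroup G)) : Commute x (σ ^ m) := by
  have hs : ∀ i : ℕ, Commute (σ ^ i) (σ ^ m) := fun i => Commute.pow_pow_self σ i m
  have ht : Commute τ (σ ^ m) := by
    have e := h.τ_conj m
    rw [inv_eq_of_mul_eq_one_right h.J_sq] at e
    exact mul_inv_eq_iff_eq_mul.1 e
  obtain ⟨i, rfl | rfl⟩ := h.cases x hx
  · exact hs i
  · exact (hs i).mul_left ht

theorem sylow_le : (P : Subgroup G) ≤ Subgroup.centralizer ({σ ^ m} : Set G) := fun _ hx =>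
  Subgroup.mem_centralizer_singleton_iff.2 (h.commute_J hx).eq

/-- Conjugation inside the Sylow subgroup fixes or inverts the rotations. -/
theorem conj_rot {x y : G} (hx : x ∈ Subgroup.zpowers σ) (hy : y ∈ (P : Subgroup G)) :
    y * x * y⁻¹ = x ∨ y * x * y⁻¹ = x⁻¹ := by
  obtain ⟨j, rfl⟩ := mem_powers_iff_mem_zpowers.2 hx
  obtain ⟨i, rfl | rfl⟩ := h.cases y hy
  · left; rw [(Commute.pow_pow_self σ i j).eq, mul_inv_cancel_right]
  · right
    rw [mul_inv_rev, show σ ^ i * τ * σ ^ j * (τ⁻¹ * (σ ^ i)⁻¹) =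
      σ ^ i * (τ * σ ^ j * τ⁻¹) * (σ ^ i)⁻¹ by group, h.τ_conj,
      ((Commute.pow_pow_self σ i j).inv_right).eq, mul_inv_cancel_right]

/-- `J` is the involution of every nontrivial subgroup of the rotations. -/
theorem pow_half {x : G} (hx : x ∈ Subgroup.zpowers σ) (h1 : x ≠ 1) :
    2 ∣ orderOf x ∧ x ^ (orderOf x / 2) = σ ^ m := by
  obtain ⟨i, rfl⟩ := mem_powers_iff_mem_zpowers.2 hx
  obtain ⟨e, he⟩ := h.m_pow
  have hd : orderOf (σ ^ i) ∣ 2 ^ (e + 1) := by
    rw [pow_succ', ← he, ← h.order_σ]; exact orderOf_pow_dvd i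
  obtain ⟨k, -, hk⟩ := (Nat.dvd_prime_pow Nat.prime_two).1 hd
  have hk0 : k ≠ 0 := fun e0 => h1 (orderOf_eq_one_iff.1 (by rw [hk, e0, pow_zero]))
  have h2 : 2 ∣ orderOf (σ ^ i) := by rw [hk]; exact dvd_pow_self 2 hk0
  refine ⟨h2, ?_⟩
  have hy : (σ ^ i) ^ (orderOf (σ ^ i) / 2) ≠ 1 := fun e1 => by
    have := Nat.le_of_dvd (Nat.div_pos (Nat.le_of_dvd (orderOf_pos _) h2) two_pos)
      (orderOf_dvd_of_pow_eq_one e1)
    have := orderOf_pos (σ ^ i)
    omega
  rw [← pow_mul] at hy ⊢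
  set l := i * (orderOf (σ ^ i) / 2)
  have hl : (σ ^ l) ^ 2 = 1 := by
    rw [← pow_mul, show l * 2 = i * orderOf (σ ^ i) by
      rw [mul_assoc, Nat.div_mul_cancel h2], pow_mul, pow_orderOf_eq_one]
  rw [← pow_mul, ← orderOf_dvd_iff_pow_eq_one, h.order_σ, mul_comm 2 m] at hl
  obtain ⟨c, hc⟩ : m ∣ l := Nat.dvd_of_mul_dvd_mul_right two_pos hl
  rw [hc, pow_mul] at hy ⊢
  rcases Nat.even_or_odd c with ⟨d, rfl⟩ | ⟨d, rfl⟩
  · exact absurd (by rw [← two_mul, pow_mul, pow_two, h.J_sq, one_pow]) hy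
  · rw [pow_add, pow_mul, pow_two, h.J_sq, one_pow, one_mul, pow_one]

omit h in
theorem mem_of_pow {x : G} (i : ℕ) (hx : x = σ ^ i) : x ∈ Subgroup.zpowers σ :=
  hx ▸ pow_mem (Subgroup.mem_zpowers σ) i

/-- The centralizer of `J` retracts onto the Sylow subgroup with kernel of odd order. -/
theorem exists_retract :
    ∃ π : Subgroup.centralizer ({σ ^ m} : Set G) →* (P : Subgroup G),
      (∀ c : Subgroup.centralizer ({σ ^ m} : Set G), ∀ hc : (c : G) ∈ (P : Subgroup G),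
        π c = ⟨c, hc⟩) ∧
      ∀ c, π c = 1 ↔ ¬ 2 ∣ orderOf c := by
  classical
  haveI : Fact (Nat.Prime 2) := ⟨Nat.prime_two⟩
  set C := Subgroup.centralizer ({σ ^ m} : Set G) with hC
  set S : Sylow 2 C := P.subtype h.sylow_le
  have hS : ∀ {x : C}, x ∈ S ↔ (x : G) ∈ (P : Subgroup G) := Iff.rfl
  let F : Subgroup C := Subgroup.zpowers (⟨σ, h.sylow_le h.σ_mem⟩ : C)
  have hF : ∀ {x : C}, x ∈ F ↔ (x : G) ∈ Subgroup.zpowers σ := fun {x} => by
    simp only [F, Subgroup.mem_zpowers_iff, Subtype.ext_iff, SubgroupClass.coe_zpow]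
  have hconjJ : ∀ (g : C) (x : G), (g : G) * x * (g : G)⁻¹ = σ ^ m → x = σ ^ m := fun g x e => by
    have hg := Subgroup.mem_centralizer_singleton_iff.1 g.2
    calc x = (g : G)⁻¹ * ((g : G) * x * (g : G)⁻¹) * g := by group
      _ = (g : G)⁻¹ * (σ ^ m * g) := by rw [e]; group
      _ = σ ^ m := by rw [← hg, inv_mul_cancel_left]
  have hfoc : commutator C ⊓ (S : Subgroup C) ≤ F := by
    refine Transfer.Fusion.focal_le_of_fusion S fun x hx g hgx => ⟨g, rfl, ?_⟩
    rw [hF, commutatorElement_def]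
    have hx' : (x : G) ∈ (P : Subgroup G) := hS.1 hx
    have hy' : (g : G) * x * (g : G)⁻¹ ∈ (P : Subgroup G) := hS.1 hgx
    simp only [Subgroup.coe_mul, Subgroup.coe_inv]
    rw [show (x : G) * g * (x : G)⁻¹ * (g : G)⁻¹ = x * ((g : G) * x * (g : G)⁻¹)⁻¹ by group]
    have ho : orderOf ((g : G) * x * (g : G)⁻¹) = orderOf (x : G) :=
      BlockCharsA.RegularPart.orderOf_conj' _ _
    have hmix : ∀ i j : ℕ, ∀ {u : G}, u = σ ^ i → orderOf u = orderOf (σ ^ j * τ) → u = σ ^ m := by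
      intro i j u hu e
      rw [orderOf_eq_prime (p := 2) (x := σ ^ j * τ) (by rw [pow_two]; exact h.refl_sq j)
        fun e1 => h.refl_ne j (by rw [e1]; exact one_mem _)] at e
      have hu1 : u ≠ 1 := fun e1 => by rw [e1, orderOf_one] at e; omega
      have := (h.pow_half (mem_of_pow i hu) hu1).2
      rwa [e, Nat.div_self two_pos, pow_one] at this
    obtain ⟨i, hi | hi⟩ := h.cases _ hx' <;> obtain ⟨j, hj | hj⟩ := h.cases _ hy'
    · rw [hj, hi]
      exact mul_mem (pow_mem (Subgroup.mem_zpowers σ) i)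
        (inv_mem (pow_mem (Subgroup.mem_zpowers σ) j))
    · exfalso
      have hxJ := hmix i j hi (by rw [← hj, ho])
      have : (g : G) * x * (g : G)⁻¹ = σ ^ m := by
        rw [hxJ, Subgroup.mem_centralizer_singleton_iff.1 g.2, mul_inv_cancel_right]
      exact h.refl_ne j (hj ▸ this.symm ▸ pow_mem (Subgroup.mem_zpowers σ) m)
    · exfalso
      have hyJ := hmix j i hj (by rw [← hi, ho])
      exact h.refl_ne i (hi ▸ (hconjJ g x hyJ).symm ▸ pow_mem (Subgroup.mem_zpowers σ) m)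
    · rw [hj, hi, mul_inv_rev, show σ ^ i * τ * (τ⁻¹ * (σ ^ j)⁻¹) = σ ^ i * (σ ^ j)⁻¹ by group]
      exact mul_mem (pow_mem (Subgroup.mem_zpowers σ) i)
        (inv_mem (pow_mem (Subgroup.mem_zpowers σ) j))
  obtain ⟨N, hN, hNS, hsup⟩ := Transfer.Fusion.exists_normal_inf_eq_focal S
  haveI := hN
  -- the Sylow subgroups of `N` are cyclic
  have hNc : Cfsg.HasNormalPComplement 2 N := by
    by_cases h2 : 2 ∣ Nat.card N
    · obtain ⟨R⟩ : Nonempty (Sylow 2 N) := inferInstance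
      obtain ⟨T, hT⟩ := (R.2.map N.subtype).exists_le_sylow
      obtain ⟨c, hc⟩ := MulAction.exists_smul_eq C T S
      have hmem : ∀ r : R, c * ((r : N) : C) * c⁻¹ ∈ F := fun r => by
        refine hfoc (hNS ▸ ⟨hN.conj_mem _ (r : N).2 c, ?_⟩)
        show c * ((r : N) : C) * c⁻¹ ∈ S
        rw [← hc, ← SetLike.mem_coe, Sylow.coe_smul]
        exact ⟨((r : N) : C), hT ⟨r, r.2, rfl⟩, rfl⟩
      let φ : (R : Subgroup N) →* F :=
        { toFun := fun r => ⟨c * ((r : N) : C) * c⁻¹, hmem r⟩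
          map_one' := Subtype.ext (by simp)
          map_mul' := fun a b => Subtype.ext (by simp [mul_assoc]) }
      haveI : IsCyclic (R : Subgroup N) := isCyclic_of_injective φ fun a b e => by
        have e' := congrArg Subtype.val e
        exact Subtype.ext (Subtype.ext (mul_left_cancel (mul_right_cancel e')))
      exact Transfer.NormalPComplement.hasNormalPComplement_of_normalizer_le_centralizer R
        (IsCyclic.normalizer_le_centralizer ((Nat.minFac_eq_two_iff _).2 h2) inferInstance)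
    · exact Transfer.NormalPComplement.hasNormalPComplement_of_coprime
        ((Nat.prime_two.coprime_iff_not_dvd).2 h2).symm
  obtain ⟨k, -, hk⟩ := (Nat.dvd_prime_pow Nat.prime_two).1
    (show N.index ∣ 2 ^ (S.2.exists_card_eq.choose) by
      rw [← S.2.exists_card_eq.choose_spec, ← Subgroup.relIndex_top_right N, ← hsup,
        sup_comm, Subgroup.relIndex_sup_right]
      exact Subgroup.relIndex_dvd_card _ _)
  obtain ⟨K, hK, hKc⟩ := (Transfer.NormalPComplement.hasNormalPComplement_iff_sylow S).1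
    (Transfer.NormalPComplement.hasNormalPComplement_of_normal_index hNc hk)
  haveI := hK
  have hSP : ∀ x : (S : Subgroup C), ((x : C) : G) ∈ (P : Subgroup G) := fun x => x.2
  let e : (C ⧸ K) ≃* (S : Subgroup C) := hKc.symm.QuotientMulEquiv
  let toP : (S : Subgroup C) →* (P : Subgroup G) :=
    { toFun := fun x => ⟨((x : C) : G), hSP x⟩
      map_one' := rfl
      map_mul' := fun _ _ => rfl }
  refine ⟨toP.comp (e.toMonoidHom.comp (QuotientGroup.mk' K)), fun c hc => ?_, fun c => ?_⟩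
  · have : e (QuotientGroup.mk' K c) = ⟨c, hc⟩ := by
      rw [← e.eq_symm_apply]
      rfl
    exact Subtype.ext (congrArg (fun z : (S : Subgroup C) => ((z : C) : G)) this)
  · rw [show toP.comp (e.toMonoidHom.comp (QuotientGroup.mk' K)) c = 1 ↔
        QuotientGroup.mk' K c = 1 from ⟨fun e1 => e.map_eq_one_iff.1 (Subtype.ext (Subtype.ext
          (congrArg (fun z : (P : Subgroup G) => (z : G)) e1))), fun e1 => by
          rw [MonoidHom.comp_apply, MonoidHom.comp_apply, e1, map_one, map_one]⟩,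
      QuotientGroup.mk'_apply, QuotientGroup.eq_one_iff,
      Transfer.NormalPComplement.mem_iff_coprime_of_isComplement' hKc, Nat.coprime_comm]
    exact Nat.prime_two.coprime_iff_not_dvd

/-- Fusion of the rotations. -/
theorem fusion {g x y : G} (hx : x ∈ Subgroup.zpowers σ) (hy : y ∈ Subgroup.zpowers σ)
    (hx1 : x ≠ 1) (e : g * x * g⁻¹ = y) : y = x ∨ y = x⁻¹ := by
  have hy1 : y ≠ 1 := fun e1 => hx1 (by
    rw [e1] at e
    calc x = g⁻¹ * (g * x * g⁻¹) * g := by group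
      _ = 1 := by rw [e]; group)
  obtain ⟨-, ex⟩ := h.pow_half hx hx1
  obtain ⟨-, ey⟩ := h.pow_half hy hy1
  have hg : g ∈ Subgroup.centralizer ({σ ^ m} : Set G) := by
    rw [Subgroup.mem_centralizer_singleton_iff]
    refine mul_inv_eq_iff_eq_mul.1 ?_
    conv_lhs => rw [← ex, ← conj_pow, e]
    rw [← ey, ← e, BlockCharsA.RegularPart.orderOf_conj']
  obtain ⟨π, hπ, -⟩ := h.exists_retract
  have hσP : Subgroup.zpowers σ ≤ (P : Subgroup G) := Subgroup.zpowers_le.2 h.σ_mem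
  have e' : π ⟨g, hg⟩ * π ⟨x, h.sylow_le (hσP hx)⟩ * (π ⟨g, hg⟩)⁻¹ =
      π ⟨y, h.sylow_le (hσP hy)⟩ := by
    rw [← map_inv, ← map_mul, ← map_mul]
    exact congrArg π (Subtype.ext e)
  rw [hπ ⟨x, h.sylow_le (hσP hx)⟩ (hσP hx), hπ ⟨y, h.sylow_le (hσP hy)⟩ (hσP hy)] at e'
  rw [← show ((π ⟨g, hg⟩ : (P : Subgroup G)) : G) * x * ((π ⟨g, hg⟩ : (P : Subgroup G)) : G)⁻¹ = y
    from congrArg Subtype.val e']
  exact h.conj_rot hx (π ⟨g, hg⟩).2

omit h in
theorem centralizer_le {x : G} {k : ℕ} (e : x ^ k = σ ^ m) :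
    Subgroup.centralizer ({x} : Set G) ≤ Subgroup.centralizer ({σ ^ m} : Set G) := fun c hc =>
  Subgroup.mem_centralizer_singleton_iff.2 (by
    rw [← e]
    exact ((show Commute c x from Subgroup.mem_centralizer_singleton_iff.1 hc).pow_right k).eq)

/-- The order of the centralizer of a rotation in the Sylow subgroup. -/
noncomputable def wgt (σ : G) (m : ℕ) (x : G) : ℕ :=
  open scoped Classical in if x = σ ^ m then 4 * m else 2 * m

/-- The regular elements of the centralizer of a rotation. -/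
theorem card_regular {x : G} (hx : x ∈ Subgroup.zpowers σ) (hx1 : x ≠ 1) :
    Nat.card {s : Subgroup.centralizer ({x} : Set G) // ¬ 2 ∣ orderOf s} * wgt σ m x =
      Nat.card (Subgroup.centralizer ({x} : Set G)) := by
  classical
  obtain ⟨π, hπ, hker⟩ := h.exists_retract
  have hσP : Subgroup.zpowers σ ≤ (P : Subgroup G) := Subgroup.zpowers_le.2 h.σ_mem
  have hle := centralizer_le (σ := σ) (h.pow_half hx hx1).2
  set ρ : Subgroup.centralizer ({x} : Set G) →* (P : Subgroup G) :=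
    π.comp (Subgroup.inclusion hle)
  have hk : ∀ s, s ∈ ρ.ker ↔ ¬ 2 ∣ orderOf s := fun s => by
    rw [MonoidHom.mem_ker]
    refine (hker _).trans ?_
    rw [orderOf_injective _ (Subgroup.inclusion_injective hle)]
  have hr : Nat.card ρ.range = wgt σ m x := by
    have hmem : ∀ y : (P : Subgroup G), y ∈ ρ.range ↔ Commute (y : G) x := by
      intro y
      constructor
      · rintro ⟨c, rfl⟩
        have e1 : π (Subgroup.inclusion hle c) * π ⟨x, h.sylow_le (hσP hx)⟩ =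
            π ⟨x, h.sylow_le (hσP hx)⟩ * π (Subgroup.inclusion hle c) := by
          rw [← map_mul, ← map_mul]
          exact congrArg π (Subtype.ext (Subgroup.mem_centralizer_singleton_iff.1 c.2))
        rw [hπ ⟨x, h.sylow_le (hσP hx)⟩ (hσP hx)] at e1
        exact congrArg Subtype.val e1
      · intro hc
        refine ⟨⟨(y : G), Subgroup.mem_centralizer_singleton_iff.2 hc.eq⟩, ?_⟩
        exact hπ _ y.2
    unfold wgt
    split_ifs with hJ
    · rw [show ρ.range = ⊤ from (Subgroup.eq_top_iff' _).2 fun y => (hmem y).2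
        (hJ ▸ h.commute_J y.2), Subgroup.card_top, h.card_sylow]
    · have : ρ.range = (Subgroup.zpowers σ).subgroupOf (P : Subgroup G) := by
        ext y
        rw [hmem, Subgroup.mem_subgroupOf]
        obtain ⟨i, hi | hi⟩ := h.cases y y.2
        · refine iff_of_true ?_ (mem_of_pow i hi)
          obtain ⟨j, rfl⟩ := mem_powers_iff_mem_zpowers.2 hx
          rw [hi]; exact Commute.pow_pow_self σ i j
        · refine iff_of_false (fun hc => hJ ?_) (hi ▸ h.refl_ne i)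
          have hyx : (y : G) * x * (y : G)⁻¹ = x := by rw [hc.eq, mul_inv_cancel_right]
          have hinv : (y : G) * x * (y : G)⁻¹ = x⁻¹ := by
            obtain ⟨j, rfl⟩ := mem_powers_iff_mem_zpowers.2 hx
            rw [hi, mul_inv_rev, show σ ^ i * τ * σ ^ j * (τ⁻¹ * (σ ^ i)⁻¹) =
              σ ^ i * (τ * σ ^ j * τ⁻¹) * (σ ^ i)⁻¹ by group, h.τ_conj,
              ((Commute.pow_pow_self σ i j).inv_right).eq, mul_inv_cancel_right]
          haveI := Fact.mk Nat.prime_two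
          have ho : orderOf x = 2 := orderOf_eq_prime (by
            rw [pow_two]; nth_rewrite 2 [hyx.symm.trans hinv]; exact mul_inv_cancel x) hx1
          have := (h.pow_half hx hx1).2
          rwa [ho, Nat.div_self two_pos, pow_one] at this
      rw [this, Nat.card_congr (Subgroup.subgroupOfEquivOfLe hσP).toEquiv, Nat.card_zpowers,
        h.order_σ]
  rw [← hr, ← Subgroup.index_ker, ← ρ.ker.card_mul_index]
  congr 1
  exact Nat.card_congr (Equiv.subtypeEquivRight fun s => (hk s).symm)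

/-- The principal block is constant on the section of a rotation. -/
theorem value_section {M : Ideal Cfsg.AlgInt} (hM : Cfsg.IsPModular 2 M) {x : G}
    (hx : x ∈ Subgroup.zpowers σ) (hx1 : x ≠ 1) {χ : Cfsg.IrrCharacter G}
    (hχ : χ ∈ Cfsg.principalBlock M G) {s : G} (hc : Commute x s) (hs : ¬ 2 ∣ orderOf s) :
    (χ : G → ℂ) (x * s) = (χ : G → ℂ) x := by
  obtain ⟨π, -, hker⟩ := h.exists_retract
  have hle := centralizer_le (σ := σ) (h.pow_half hx hx1).2
  set ρ := π.comp (Subgroup.inclusion hle)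
  have hk : ∀ s, s ∈ ρ.ker ↔ ¬ 2 ∣ orderOf s := fun s => by
    rw [MonoidHom.mem_ker]
    refine (hker _).trans ?_
    rw [orderOf_injective _ (Subgroup.inclusion_injective hle)]
  have hodd : ¬ 2 ∣ Nat.card ρ.ker := fun hd => by
    haveI := Fact.mk Nat.prime_two
    obtain ⟨y, hy⟩ := exists_prime_orderOf_dvd_card' 2 hd
    exact (hk _).1 y.2 (by rw [Subgroup.orderOf_coe, hy])
  have hxo : ∃ k : ℕ, orderOf x = 2 ^ k := by
    obtain ⟨i, rfl⟩ := mem_powers_iff_mem_zpowers.2 hx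
    obtain ⟨e, he⟩ := h.m_pow
    obtain ⟨k, -, hk'⟩ := (Nat.dvd_prime_pow Nat.prime_two).1
      (show orderOf (σ ^ i) ∣ 2 ^ (e + 1) by
        rw [pow_succ', ← he, ← h.order_σ]; exact orderOf_pow_dvd i)
    exact ⟨k, hk'⟩
  exact ZStar.Principal.value_mul_of_mem hM hxo hχ hodd
    (v := ⟨s, Subgroup.mem_centralizer_singleton_iff.2 hc.eq.symm⟩)
    ((hk _).2 (by rwa [Subgroup.orderOf_mk]))

end DihSylow

end Cfsg.Agent.CharTheory.DihedralPrincipal
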