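import Mathlib
import Cfsg.Agent.Lib.CharTheory.DihedralPrincipal.Setting

/-!
# The columns of the principal 2-block at the rotations

Orthogonality of the columns, and the multiplicities of the eigenvalues of the rotation.
-/

set_option autoImplicit false
set_option linter.style.haveILetI false
set_option linter.unusedSectionVars false

namespace Cfsg.Agent.CharTheory.DihedralPrincipal

open Cfsg.Agent.Blocks Cfsg.Agent.Characters
open scoped ComplexConjugate

universe u

variable {G : Type u} [Group G] [Fintype G] [Fintype (Cfsg.IrrCharacter G)]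
  {P : Sylow 2 G} {σ τ : G} {m : ℕ} {M : Ideal Cfsg.AlgInt}

/-- The principal block as a finite set. -/
noncomputable def prin (M : Ideal Cfsg.AlgInt) : Finset (Cfsg.IrrCharacter G) :=
  open scoped Classical in Finset.univ.filter fun χ => χ ∈ Cfsg.principalBlock M G

theorem mem_prin {χ : Cfsg.IrrCharacter G} : χ ∈ prin M ↔ χ ∈ Cfsg.principalBlock M G := by
  simp [prin]

/-- `g` lies in the section of `x`. -/
def InSection (x g : G) : Prop := ∃ z, IsConj x z ∧ Cfsg.IsPPart 2 g z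

namespace DihSylow

variable (h : DihSylow P σ τ m)
include h

theorem rot_pElement {x : G} (hx : x ∈ Subgroup.zpowers σ) : ∃ k : ℕ, orderOf x = 2 ^ k := by
  obtain ⟨i, rfl⟩ := mem_powers_iff_mem_zpowers.2 hx
  obtain ⟨e, he⟩ := h.m_pow
  obtain ⟨k, -, hk⟩ := (Nat.dvd_prime_pow Nat.prime_two).1
    (show orderOf (σ ^ i) ∣ 2 ^ (e + 1) by
      rw [pow_succ', ← he, ← h.order_σ]; exact orderOf_pow_dvd i)
  exact ⟨k, hk⟩

theorem inSection_rot {x y : G} (hx : x ∈ Subgroup.zpowers σ) (hx1 : x ≠ 1)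
    (hy : y ∈ Subgroup.zpowers σ) : InSection x y ↔ y = x ∨ y = x⁻¹ := by
  have hyy : Cfsg.IsPPart 2 y y :=
    ⟨1, mul_one y, Commute.one_right y, h.rot_pElement hy, by simp⟩
  constructor
  · rintro ⟨z, hz, hzy⟩
    obtain rfl := ppart_unique Nat.prime_two hzy hyy
    obtain ⟨c, hc⟩ := isConj_iff.1 hz
    exact h.fusion hx hy hx1 hc
  · rintro (rfl | rfl)
    · exact ⟨y, IsConj.refl y, hyy⟩
    · refine ⟨x⁻¹, isConj_iff.2 ⟨τ, ?_⟩, hyy⟩
      obtain ⟨i, rfl⟩ := mem_powers_iff_mem_zpowers.2 hx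
      exact h.τ_conj i

theorem real_rot (χ : Cfsg.IrrCharacter G) (l : ℕ) :
    conj ((χ : G → ℂ) (σ ^ l)) = (χ : G → ℂ) (σ ^ l) := by
  rw [← char_inv (irr_isCharacter χ), ← h.τ_conj, irr_isClassFunction χ]

/-- Orthogonality of the column of a rotation with every column. -/
theorem column (hM : Cfsg.IsPModular 2 M) {x : G} (hx : x ∈ Subgroup.zpowers σ) (hx1 : x ≠ 1)
    (g : G) [Decidable (InSection x g)] :
    ∑ χ ∈ prin (G := G) M, (χ : G → ℂ) x * (χ : G → ℂ) g =
      if InSection x g then (wgt σ m x : ℂ) else 0 := by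
  classical
  set X := Finset.univ.filter fun z : G => IsConj x z with hX
  set F : G → ℂ := fun g => if InSection x g then 1 else 0 with hF
  have hFc : Cfsg.IsClassFunction G F := fun a c => by
    have hiff : InSection x (c * a * c⁻¹) ↔ InSection x a := by
      constructor
      · rintro ⟨z, hz, s, hzs, hc, ho, hs⟩
        refine ⟨c⁻¹ * z * c, hz.trans (isConj_iff.2 ⟨c⁻¹, by rw [inv_inv]⟩),
          c⁻¹ * s * c, ?_, ?_, ?_, ?_⟩
        · rw [show c⁻¹ * z * c * (c⁻¹ * s * c) = c⁻¹ * (z * s) * c by group, hzs]; group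
        · have := hc.map (MulAut.conj c⁻¹).toMonoidHom
          simpa using this
        · obtain ⟨k, hk⟩ := ho
          exact ⟨k, by rw [← BlockCharsA.RegularPart.orderOf_conj' _ c, ← hk]; group⟩
        · rw [← BlockCharsA.RegularPart.orderOf_conj' _ c]
          rwa [show c * (c⁻¹ * s * c) * c⁻¹ = s by group]
      · rintro ⟨z, hz, s, hzs, hc, ho, hs⟩
        refine ⟨c * z * c⁻¹, hz.trans (isConj_iff.2 ⟨c, rfl⟩), c * s * c⁻¹, ?_, ?_, ?_, ?_⟩
        · rw [← hzs]; group
        · exact hc.map (MulAut.conj c).toMonoidHom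
        · rwa [BlockCharsA.RegularPart.orderOf_conj']
        · rwa [BlockCharsA.RegularPart.orderOf_conj']
    simp only [hF, hiff]
  have hXp : ∀ z ∈ X, ∃ k : ℕ, orderOf z = 2 ^ k := fun z hz => by
    obtain ⟨c, rfl⟩ := isConj_iff.1 (Finset.mem_filter.1 hz).2
    rw [BlockCharsA.RegularPart.orderOf_conj']
    exact h.rot_pElement hx
  have hfilter : Finset.univ.filter (fun g => InSection x g) =
      Finset.univ.filter fun g => ∃ z ∈ X, Cfsg.IsPPart 2 g z := by
    ext g; simp [InSection, hX]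
  have hin : ∀ χ : Cfsg.IrrCharacter G, Cfsg.classInner F (χ : G → ℂ) = (Nat.card G : ℂ)⁻¹ *
      conj (∑ z ∈ X, ∑ s ∈ Finset.univ.filter (fun s => Commute z s ∧ ¬ 2 ∣ orderOf s),
        (χ : G → ℂ) (z * s)) := fun χ => by
    rw [classInner_def, ← ZStar.Sections.sum_section Nat.prime_two X hXp, ← hfilter, map_sum,
      Finset.sum_filter]
    congr 1
    exact Finset.sum_congr rfl fun g _ => by by_cases hg : InSection x g <;> simp [hF, hg]
  have hval : ∀ χ ∈ prin (G := G) M, ∀ z ∈ X,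
      ∑ s ∈ Finset.univ.filter (fun s => Commute z s ∧ ¬ 2 ∣ orderOf s), (χ : G → ℂ) (z * s) =
        (Nat.card {s : Subgroup.centralizer ({x} : Set G) // ¬ 2 ∣ orderOf s} : ℂ) *
          (χ : G → ℂ) x := by
    intro χ hχ z hz
    obtain ⟨c, rfl⟩ := isConj_iff.1 (Finset.mem_filter.1 hz).2
    rw [Nat.card_eq_fintype_card, ← Finset.card_univ, Finset.cast_card, Finset.sum_mul]
    symm
    refine Finset.sum_bij (fun s _ => c * ((s : Subgroup.centralizer ({x} : Set G)) : G) * c⁻¹)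
      (fun s _ => ?_) (fun a _ b _ e => Subtype.ext (Subtype.ext
        (mul_left_cancel (mul_right_cancel e)))) (fun s hs => ?_) (fun s _ => ?_)
    · simp only [Finset.mem_filter, Finset.mem_univ, true_and,
        BlockCharsA.RegularPart.orderOf_conj', Subgroup.orderOf_coe]
      exact ⟨(ZStar.Principal.commute_coe x s.1).map (MulAut.conj c).toMonoidHom, s.2⟩
    · obtain ⟨hs1, hs2⟩ := (Finset.mem_filter.1 hs).2
      have hs3 := hs1.map (MulAut.conj c⁻¹).toMonoidHom
      simp only [MulEquiv.toMonoidHom_eq_coe, MonoidHom.coe_coe, MulAut.conj_apply, inv_inv] at hs3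
      rw [show c⁻¹ * (c * x * c⁻¹) * c = x by group] at hs3
      refine ⟨⟨⟨_, Subgroup.mem_centralizer_singleton_iff.2 hs3.eq.symm⟩, ?_⟩,
        Finset.mem_univ _, by group⟩
      rw [Subgroup.orderOf_mk, ← BlockCharsA.RegularPart.orderOf_conj' _ c]
      rwa [show c * (c⁻¹ * s * c) * c⁻¹ = s by group]
    · rw [one_mul, show c * x * c⁻¹ * (c * ((s : Subgroup.centralizer ({x} : Set G)) : G) * c⁻¹) =
        c * (x * ((s : Subgroup.centralizer ({x} : Set G)) : G)) * c⁻¹ by group,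
        irr_isClassFunction χ, h.value_section hM hx hx1 (mem_prin.1 hχ)
          (ZStar.Principal.commute_coe x s.1) (by rw [Subgroup.orderOf_coe]; exact s.2)]
  have hXcard : X.card * Nat.card (Subgroup.centralizer ({x} : Set G)) = Nat.card G := by
    rw [← card_carrier_mul_card_centralizer x]
    congr 1
    rw [Nat.card_eq_fintype_card, ← Set.toFinset_card]
    congr 1
    ext z
    simp only [hX, Finset.mem_filter, Finset.mem_univ, true_and, Set.mem_toFinset,
      ConjClasses.mem_carrier_iff_mk_eq, ConjClasses.mk_eq_mk_iff_isConj]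
    exact ⟨fun e => e.symm, fun e => e.symm⟩
  have hw0 : (wgt σ m x : ℂ) ≠ 0 := by
    refine Nat.cast_ne_zero.2 ?_
    unfold wgt; split_ifs <;> linarith [h.pos]
  have hR := h.card_regular hx hx1
  have hFin : ∀ χ : Cfsg.IrrCharacter G, Cfsg.classInner F (χ : G → ℂ) =
      if χ ∈ prin M then conj ((χ : G → ℂ) x) / (wgt σ m x : ℂ) else 0 := by
    intro χ
    rw [hin]
    split_ifs with hχ
    · rw [Finset.sum_congr rfl (hval χ hχ), Finset.sum_const, nsmul_eq_mul, map_mul, map_mul,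
        map_natCast, map_natCast, ← hXcard, ← hR]
      have hX0 : (X.card : ℂ) ≠ 0 := Nat.cast_ne_zero.2
        (Finset.card_ne_zero.2 ⟨x, Finset.mem_filter.2 ⟨Finset.mem_univ _, IsConj.refl x⟩⟩)
      have hn0 : (Nat.card {s : Subgroup.centralizer ({x} : Set G) // ¬ 2 ∣ orderOf s} : ℂ) ≠ 0 := by
        refine Nat.cast_ne_zero.2 fun e => ?_
        rw [e, zero_mul] at hR
        exact Nat.card_pos.ne' hR.symm
      push_cast
      field_simp
    · rw [Finset.sum_eq_zero fun z hz => ?_, map_zero, mul_zero]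
      rw [ZStar.Sections.sum_commute_eq_regSum]
      exact ZStar.Principal.regSum_shift_one hM (hXp z hz) fun e => hχ (mem_prin.2 e)
  have hsum := congrFun (classFun_eq_sum hFc) g
  simp only [Finset.sum_apply, Pi.smul_apply, smul_eq_mul, hFin, ite_mul, zero_mul] at hsum
  rw [← Finset.sum_filter, Finset.filter_univ_mem] at hsum
  obtain ⟨i, hi⟩ := mem_powers_iff_mem_zpowers.2 hx
  calc ∑ χ ∈ prin (G := G) M, (χ : G → ℂ) x * (χ : G → ℂ) g
      = (wgt σ m x : ℂ) * ∑ χ ∈ prin (G := G) M, conj ((χ : G → ℂ) x) / (wgt σ m x : ℂ) * (χ : G → ℂ) g := by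
        rw [Finset.mul_sum]
        refine Finset.sum_congr rfl fun χ _ => ?_
        rw [show conj ((χ : G → ℂ) x) = (χ : G → ℂ) x by rw [← hi, h.real_rot]]
        field_simp
    _ = _ := by
      rw [← hsum, hF]
      dsimp only
      split_ifs <;> simp

/-- Characters of the principal block do not vanish at the central involution. -/
theorem value_J_ne_zero (hM : Cfsg.IsPModular 2 M) {χ : Cfsg.IrrCharacter G}
    (hχ : χ ∈ prin M) : (χ : G → ℂ) (σ ^ m) ≠ 0 := fun h0 => by
  set z := classSum (σ ^ m)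
  have hc := omega_cong_of_mem hM (isPBlock_principal M G) (mem_prin.1 hχ)
    (trivIrr_mem_principal hM) (central_classSum (σ ^ m)) (intEl_classSum hM (σ ^ m))
  rw [omega_classSum (irr_isClassFunction χ), omega_classSum (irr_isClassFunction (trivIrr G)),
    Cfsg.centralChar, Cfsg.centralChar, h0] at hc
  simp only [trivIrr, mul_zero, zero_div, mul_one, div_one, Cong, zero_sub] at hc
  have h1 := ideal_neg hM hc
  rw [neg_neg, ideal_natCast_iff hM] at h1
  refine P.not_dvd_index ?_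
  exact h1.trans (Subgroup.index_dvd_of_le h.sylow_le)

end DihSylow

/-! ## Roots of unity -/

/-- `ζ^{jl} + ζ^{-jl}`. -/
noncomputable def gv (ζ : ℂ) (j l : ℕ) : ℂ := ζ ^ (j * l) + (ζ ^ (j * l))⁻¹

variable {ζ : ℂ} (hζ : IsPrimitiveRoot ζ (2 * m))
include hζ

theorem sum_pow_root (hm : 0 < m) (k : ℤ) :
    ∑ l ∈ Finset.range (2 * m), (ζ ^ k) ^ l = if (2 * m : ℤ) ∣ k then (2 * m : ℂ) else 0 := by
  have hz : (ζ ^ k) ^ (2 * m) = 1 := by
    rw [← zpow_natCast, ← zpow_mul, mul_comm, zpow_mul, zpow_natCast, hζ.pow_eq_one, one_zpow]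
  have hiff : ζ ^ k = 1 ↔ (2 * m : ℤ) ∣ k := by
    rw [hζ.zpow_eq_one_iff_dvd]; push_cast; rfl
  split_ifs with hd
  · rw [hiff.2 hd]; simp
  · rw [geom_sum_eq (fun e => hd (hiff.1 e)), hz, sub_self, zero_div]

theorem sum_gv_mul (hm : 0 < m) {j p : ℕ} (hj : j ≤ m) (hp : p ≤ m) :
    ∑ l ∈ Finset.range (2 * m), gv ζ j l * gv ζ p l =
      if j = p then (if j = 0 ∨ j = m then 8 * (m : ℂ) else 4 * (m : ℂ)) else 0 := by
  have hζ0 : ζ ≠ 0 := hζ.ne_zero (by omega)
  have e : ∀ l, gv ζ j l * gv ζ p l = (ζ ^ ((j : ℤ) + p)) ^ l + (ζ ^ (-((j : ℤ) + p))) ^ l +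
      ((ζ ^ ((j : ℤ) - p)) ^ l + (ζ ^ (-((j : ℤ) - p))) ^ l) := fun l => by
    simp only [gv, zpow_neg, inv_pow, zpow_add₀ hζ0, zpow_sub₀ hζ0, zpow_natCast, mul_pow,
      div_pow, ← pow_mul, mul_inv, inv_div]
    ring
  simp only [e, Finset.sum_add_distrib, sum_pow_root hζ hm, dvd_neg]
  have h1 : (2 * m : ℤ) ∣ ((j : ℤ) + p) ↔ (j = p ∧ (j = 0 ∨ j = m)) := by
    constructor
    · rintro ⟨c, hc⟩
      have hc2 : c = 0 ∨ c = 1 := by
        rcases lt_trichotomy c 0 with h | h | h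
        · nlinarith
        · exact Or.inl h
        · refine Or.inr ?_
          nlinarith
      rcases hc2 with rfl | rfl <;> constructor <;> omega
    · rintro ⟨rfl, rfl | rfl⟩
      · simp
      · exact ⟨1, by push_cast; ring⟩
  have h2 : (2 * m : ℤ) ∣ ((j : ℤ) - p) ↔ j = p := by
    constructor
    · rintro ⟨c, hc⟩
      rcases lt_trichotomy c 0 with h | h | h
      · nlinarith
      · subst h; omega
      · nlinarith
    · rintro rfl; simp
  by_cases hjp : j = p
  · subst hjp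
    by_cases hb : j = 0 ∨ j = m
    · simp [h1, h2, hb]; ring
    · simp [h1, h2, hb]; ring
  · simp [h1, h2, hjp]

theorem gv_zero_right (j : ℕ) : gv ζ j 0 = 2 := by
  simp only [gv, mul_zero, pow_zero, inv_one]; norm_num

theorem gv_half (hm : 0 < m) (j : ℕ) : gv ζ j m = 2 * (-1) ^ j := by
  have : ζ ^ m = -1 := by
    have h2 : IsPrimitiveRoot (ζ ^ m) 2 := hζ.pow (by omega) (mul_comm 2 m)
    exact h2.eq_neg_one_of_two_right
  rw [gv, mul_comm j m, pow_mul, this]
  rcases Nat.even_or_odd j with hj | hj <;> simp [hj.neg_one_pow] <;> norm_num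

theorem gv_reflect {j : ℕ} (hj : j ≤ 2 * m) (l : ℕ) : gv ζ (2 * m - j) l = gv ζ j l := by
  have h1 : ζ ^ ((2 * m - j) * l) * ζ ^ (j * l) = 1 := by
    rw [← pow_add, ← add_mul, Nat.sub_add_cancel hj, pow_mul, hζ.pow_eq_one, one_pow]
  have h2 : ζ ^ ((2 * m - j) * l) = (ζ ^ (j * l))⁻¹ := eq_inv_of_mul_eq_one_left h1
  rw [gv, gv, h2, inv_inv, add_comm]

namespace DihSylow

variable (h : DihSylow P σ τ m)
include h

theorem exists_mult (χ : Cfsg.IrrCharacter G) :
    ∃ u : ℕ → ℤ, (∀ l, (χ : G → ℂ) (σ ^ l) = ∑ j ∈ Finset.range (2 * m), (u j : ℂ) * ζ ^ (j * l)) ∧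
      ∀ j ≤ 2 * m, 4 * (m : ℂ) * (u j : ℂ) =
        ∑ l ∈ Finset.range (2 * m), gv ζ j l * (χ : G → ℂ) (σ ^ l) := by
  classical
  obtain ⟨χ, n, ρ, hρ, rfl⟩ := χ
  obtain ⟨w, hw, hsum⟩ := exists_rootsOfUnity_sum ρ σ
  rw [h.order_σ] at hw
  have hm := h.pos
  haveI : NeZero (2 * m) := ⟨by omega⟩
  have hidx : ∀ i, ∃ t < 2 * m, ζ ^ t = w i := fun i => hζ.eq_pow_of_pow_eq_one (hw i)
  choose t ht htw using hidx
  let cnt : ℕ → ℕ := fun j => (Finset.univ.filter fun i => w i = ζ ^ j).card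
  refine ⟨fun j => (cnt j : ℤ), fun l => ?_, fun j hj => ?_⟩
  · show ρ.character (σ ^ l) = _
    simp only [hsum, Int.cast_natCast, cnt, Finset.cast_card, Finset.sum_filter, Int.cast_sum,
      Int.cast_ite, Int.cast_one, Int.cast_zero, Finset.sum_mul, ite_mul, one_mul, zero_mul]
    rw [Finset.sum_comm]
    refine Finset.sum_congr rfl fun i _ => ?_
    rw [Finset.sum_eq_single (t i)]
    · rw [if_pos (htw i).symm, pow_mul, htw]
    · intro j hj hne
      refine if_neg fun e => hne ?_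
      exact hζ.pow_inj (Finset.mem_range.1 hj) (ht i) (e.symm.trans (htw i).symm)
    · intro hn; exact absurd (Finset.mem_range.2 (ht i)) hn
  · show 4 * (m : ℂ) * ((cnt j : ℤ) : ℂ) = ∑ l ∈ _, gv ζ j l * ρ.character (σ ^ l)
    have hreal : ∀ l, ρ.character (σ ^ l) = ∑ i, (w i)⁻¹ ^ l := fun l => by
      have e := h.real_rot ⟨ρ.character, n, ρ, hρ, rfl⟩ l
      simp only [hsum, map_sum, map_pow] at e
      rw [hsum, ← e]
      exact Finset.sum_congr rfl fun i _ => by
        rw [← Complex.inv_eq_conj (Complex.norm_eq_one_of_pow_eq_one (hw i) (by omega))]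
    have hζ0 : ζ ≠ 0 := hζ.ne_zero (by omega)
    have e : ∀ l, gv ζ j l * ρ.character (σ ^ l) =
        ∑ i, (((ζ ^ ((t i : ℤ) - j)) ^ l) + ((ζ ^ (-((t i : ℤ) - j))) ^ l)) := fun l => by
      rw [gv, add_mul, hreal l]
      nth_rewrite 2 [← hreal l]
      rw [hsum, Finset.mul_sum, Finset.mul_sum, ← Finset.sum_add_distrib]
      refine Finset.sum_congr rfl fun i _ => ?_
      rw [← htw i]
      simp only [zpow_neg, zpow_sub₀ hζ0, zpow_natCast, inv_pow, div_pow, inv_div, ← pow_mul]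
      ring
    simp only [e]
    rw [Finset.sum_comm, Int.cast_natCast]
    simp only [cnt, Finset.cast_card, Finset.mul_sum, mul_one, Finset.sum_filter]
    refine Finset.sum_congr rfl fun i _ => ?_
    rw [Finset.sum_add_distrib, sum_pow_root hζ hm, sum_pow_root hζ hm]
    simp only [dvd_neg]
    have hiff : (2 * m : ℤ) ∣ ((t i : ℤ) - j) ↔ w i = ζ ^ j := by
      rw [← htw i, show (2 * (m : ℤ)) = ((2 * m : ℕ) : ℤ) by push_cast; ring,
        ← hζ.zpow_eq_one_iff_dvd, zpow_sub₀ hζ0, zpow_natCast, zpow_natCast,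
        div_eq_one_iff_eq (pow_ne_zero _ hζ0)]
    by_cases he : w i = ζ ^ j
    · rw [if_pos he, if_pos (hiff.2 he)]; ring
    · rw [if_neg he, if_neg (fun e => he (hiff.1 e))]; ring

end DihSylow

end Cfsg.Agent.CharTheory.DihedralPrincipal
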