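import Mathlib

/-!
# Integer vectors of small norm on a finite set
-/

set_option autoImplicit false
set_option linter.unusedSectionVars false

namespace Cfsg.Agent.CharTheory.DihedralPrincipal

variable {ι : Type*} [DecidableEq ι] {B : Finset ι}

/-- The support of a vector on `B`. -/
def supp (B : Finset ι) (f : ι → ℤ) : Finset ι := B.filter fun χ => f χ ≠ 0

theorem mem_supp {f : ι → ℤ} {χ : ι} : χ ∈ supp B f ↔ χ ∈ B ∧ f χ ≠ 0 := Finset.mem_filter

theorem sum_supp (f g : ι → ℤ) : ∑ χ ∈ supp B f, f χ * g χ = ∑ χ ∈ B, f χ * g χ :=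
  Finset.sum_filter_of_ne fun χ _ hne h0 => hne (by rw [h0, zero_mul])

theorem sq_one_or {z : ℤ} (h : z * z ≤ 3) : z = 0 ∨ z * z = 1 := by
  rcases eq_or_ne z 0 with h0 | h0
  · exact Or.inl h0
  refine Or.inr ?_
  have h1 : -1 ≤ z := by nlinarith
  have h2 : z ≤ 1 := by nlinarith
  interval_cases z <;> simp_all

/-- A vector of norm at most three with unit entries apart from the given ones. -/
theorem unit_supp {f : ι → ℤ} {n : ℕ} (hn : n ≤ 3) {S : Finset ι} (hS : S ⊆ B)
    (h : ∑ χ ∈ B \ S, f χ * f χ = n) :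
    (supp (B \ S) f).card = n ∧ ∀ χ ∈ supp (B \ S) f, f χ * f χ = 1 := by
  have hle : ∀ χ ∈ supp (B \ S) f, f χ * f χ = 1 := fun χ hχ => by
    obtain ⟨hχB, hne⟩ := mem_supp.1 hχ
    have := Finset.single_le_sum (f := fun χ => f χ * f χ) (fun i _ => mul_self_nonneg (f i)) hχB
    simp only [h] at this
    exact (sq_one_or (this.trans (by exact_mod_cast hn))).resolve_left hne
  refine ⟨?_, hle⟩
  have : (((supp (B \ S) f).card : ℕ) : ℤ) = n := by
    rw [← h, ← sum_supp f f, Finset.sum_congr rfl hle]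
    simp
  exact_mod_cast this

theorem unit_cases {z : ℤ} (h : z * z = 1) : z = 1 ∨ z = -1 := mul_self_eq_one_iff.1 h

/-- A vector with two unit entries. -/
structure Two (B : Finset ι) (f : ι → ℤ) (p q : ι) : Prop where
  hp : p ∈ B
  hq : q ∈ B
  ne : p ≠ q
  sp : f p * f p = 1
  sq : f q * f q = 1
  off : ∀ χ ∈ B, χ ≠ p → χ ≠ q → f χ = 0

theorem exists_two {f : ι → ℤ} (h : ∑ χ ∈ B, f χ * f χ = 2) : ∃ p q, Two B f p q := by
  obtain ⟨hc, h1⟩ := unit_supp (n := 2) (by norm_num) (Finset.empty_subset B)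
    (by rw [Finset.sdiff_empty]; exact_mod_cast h)
  rw [Finset.sdiff_empty] at hc h1
  obtain ⟨p, q, hpq, he⟩ := Finset.card_eq_two.1 hc
  have hp : p ∈ supp B f := he ▸ Finset.mem_insert_self _ _
  have hq : q ∈ supp B f := he ▸ Finset.mem_insert_of_mem (Finset.mem_singleton_self _)
  refine ⟨p, q, (mem_supp.1 hp).1, (mem_supp.1 hq).1, hpq, h1 p hp, h1 q hq, fun χ hχ h2 h3 => ?_⟩
  by_contra h0
  have : χ ∈ supp B f := mem_supp.2 ⟨hχ, h0⟩
  simp [he, h2, h3] at this

theorem Two.symm {f : ι → ℤ} {p q : ι} (t : Two B f p q) : Two B f q p :=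
  ⟨t.hq, t.hp, t.ne.symm, t.sq, t.sp, fun χ hχ h h' => t.off χ hχ h' h⟩

theorem Two.sum {f : ι → ℤ} {p q : ι} (t : Two B f p q) (g : ι → ℤ) :
    ∑ χ ∈ B, f χ * g χ = f p * g p + f q * g q := by
  rw [← Finset.sum_pair (f := fun χ => f χ * g χ) t.ne]
  refine (Finset.sum_subset ?_ fun χ hχ hn => ?_).symm
  · exact Finset.insert_subset t.hp (Finset.singleton_subset_iff.2 t.hq)
  · simp only [Finset.mem_insert, Finset.mem_singleton, not_or] at hn
    rw [t.off χ hχ hn.1 hn.2, zero_mul]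

theorem Two.ne_zero {f : ι → ℤ} {p q : ι} (t : Two B f p q) : f p ≠ 0 ∧ f q ≠ 0 :=
  ⟨fun h => by simpa [h] using t.sp, fun h => by simpa [h] using t.sq⟩

theorem Two.support {f : ι → ℤ} {p q χ : ι} (t : Two B f p q) (hχ : χ ∈ B) (h : f χ ≠ 0) :
    χ = p ∨ χ = q := by
  by_contra hn
  rw [not_or] at hn
  exact h (t.off χ hχ hn.1 hn.2)

/-- Two such vectors of inner product one share exactly one entry, with the same sign. -/
theorem Two.share {f g : ι → ℤ} {p q p' q' : ι} (t : Two B f p q) (t' : Two B g p' q')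
    (h : ∑ χ ∈ B, f χ * g χ = 1) :
    (f p = g p ∧ g q = 0) ∨ (f q = g q ∧ g p = 0) := by
  rw [t.sum] at h
  have hval : ∀ χ ∈ B, g χ = 0 ∨ g χ * g χ = 1 := fun χ hχ => by
    by_cases h1 : χ = p'
    · exact Or.inr (h1 ▸ t'.sp)
    by_cases h2 : χ = q'
    · exact Or.inr (h2 ▸ t'.sq)
    exact Or.inl (t'.off χ hχ h1 h2)
  rcases hval p t.hp with a | a <;> rcases hval q t.hq with b | b
  · simp [a, b] at h
  · right; refine ⟨?_, a⟩
    rw [a, mul_zero, zero_add] at h
    calc f q = f q * (g q * g q) := by rw [b, mul_one]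
      _ = g q := by rw [← mul_assoc, h, one_mul]
  · left; refine ⟨?_, b⟩
    rw [b, mul_zero, add_zero] at h
    calc f p = f p * (g p * g p) := by rw [a, mul_one]
      _ = g p := by rw [← mul_assoc, h, one_mul]
  · exfalso
    rcases unit_cases t.sp with h1 | h1 <;> rcases unit_cases t.sq with h2 | h2 <;>
      rcases unit_cases a with h3 | h3 <;> rcases unit_cases b with h4 | h4 <;>
      rw [h1, h2, h3, h4] at h <;> norm_num at h

end Cfsg.Agent.CharTheory.DihedralPrincipal
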