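import Mathlib
import Cfsg.Agent.Lib.CharTheory.DihedralPrincipal.Vectors

/-!
# The lattice of the principal 2-block for a dihedral Sylow subgroup

From the Gram matrix of the differences of multiplicities and the column of the central involution:
the norm `4 m` of that column is exhausted by the characters that occur, which fixes the table.
-/

set_option autoImplicit false
set_option linter.unusedSectionVars false

namespace Cfsg.Agent.CharTheory.DihedralPrincipal

variable {ι : Type*} [DecidableEq ι]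

/-- The weights of the Gram matrix. -/
def gw (m j p : ℕ) : ℤ := if j = p then (if j = 0 ∨ j = m then 2 else 1) else 0

/-- The numerical data of the block. -/
structure LatData (B : Finset ι) (o : ι) (u : ι → ℕ → ℤ) (a x : ι → ℤ) (m : ℕ) : Prop where
  o_mem : o ∈ B
  m_pow : ∃ e : ℕ, m = 2 ^ (e + 1)
  u_o : ∀ j ≤ m, u o j = if j = 0 then 1 else 0
  a_o : a o = 1
  x_o : x o = 1
  x_pos : ∀ χ ∈ B, 0 < x χ
  gram : ∀ j k p q : ℕ, j ≤ m → k ≤ m → p ≤ m → q ≤ m → j % 2 = k % 2 → p % 2 = q % 2 →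
    ∑ χ ∈ B, (u χ j - u χ k) * (u χ p - u χ q) = gw m j p - gw m j q - gw m k p + gw m k q
  orth_a : ∀ j k : ℕ, j ≤ m → k ≤ m → j % 2 = k % 2 → ∑ χ ∈ B, (u χ j - u χ k) * a χ = 0
  orth_x : ∀ j k : ℕ, j ≤ m → k ≤ m → j % 2 = k % 2 → ∑ χ ∈ B, (u χ j - u χ k) * x χ = 0
  a_x : ∑ χ ∈ B, a χ * x χ = 0
  a_sq : ∑ χ ∈ B, a χ * a χ = 4 * m
  a_ne : ∀ χ ∈ B, a χ ≠ 0
  a_eq : ∀ χ ∈ B, a χ = u χ 0 + u χ m + 2 * ∑ j ∈ Finset.Ioo 0 m, (-1) ^ j * u χ j
  x_eq : ∀ χ ∈ B, x χ = u χ 0 + u χ m + 2 * ∑ j ∈ Finset.Ioo 0 m, u χ j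

/-- `Ω`. -/
def om (u : ι → ℕ → ℤ) (m : ℕ) (χ : ι) : ℤ := u χ 0 - u χ m

variable {B : Finset ι} {o : ι} {u : ι → ℕ → ℤ} {a x : ι → ℤ} {m : ℕ}

namespace LatData

variable (L : LatData B o u a x m)
include L

theorem m_even : m % 2 = 0 := by
  obtain ⟨e, rfl⟩ := L.m_pow
  rw [pow_succ]; omega

theorem two_le : 2 ≤ m := by
  obtain ⟨e, rfl⟩ := L.m_pow
  exact Nat.le_self_pow (Nat.succ_ne_zero e) 2

theorem m_cases : m = 2 ∨ m = 4 ∨ 8 ≤ m := by
  obtain ⟨e, rfl⟩ := L.m_pow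
  rcases e with _ | _ | e
  · left; rfl
  · right; left; rfl
  · right; right
    calc 8 = 2 ^ 3 := rfl
      _ ≤ _ := Nat.pow_le_pow_right two_pos (by omega)

theorem om_o : om u m o = 1 := by
  have := L.two_le
  rw [om, L.u_o 0 (Nat.zero_le _), L.u_o m le_rfl, if_pos rfl, if_neg (by omega), sub_zero]

/-- The four characters with odd value at `J`. -/
theorem four : (supp B (om u m)).card = 4 ∧ ∀ χ ∈ supp B (om u m), om u m χ * om u m χ = 1 := by
  have hm := L.two_le
  have hG : ∑ χ ∈ B, om u m χ * om u m χ = 4 := by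
    have := L.gram 0 m 0 m (Nat.zero_le _) le_rfl (Nat.zero_le _) le_rfl
      (by rw [L.m_even]) (by rw [L.m_even])
    simp only [om]
    rw [this]
    simp [gw, show m ≠ 0 by omega, show (0 : ℕ) ≠ m by omega]
  have h3 : ∑ χ ∈ B \ {o}, om u m χ * om u m χ = (3 : ℕ) := by
    have := Finset.sum_sdiff (f := fun χ => om u m χ * om u m χ)
      (Finset.singleton_subset_iff.2 L.o_mem)
    rw [Finset.sum_singleton, L.om_o, hG] at this
    push_cast; omega
  obtain ⟨hc, h1⟩ := unit_supp le_rfl (Finset.singleton_subset_iff.2 L.o_mem) h3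
  have hS : supp B (om u m) = insert o (supp (B \ {o}) (om u m)) := by
    ext χ
    simp only [mem_supp, Finset.mem_insert, Finset.mem_sdiff, Finset.mem_singleton]
    by_cases hχ : χ = o
    · subst hχ; simp [L.o_mem, L.om_o]
    · simp [hχ]
  refine ⟨?_, fun χ hχ => ?_⟩
  · rw [hS, Finset.card_insert_of_notMem (by simp [mem_supp]), hc]
  · rw [hS, Finset.mem_insert] at hχ
    rcases hχ with rfl | hχ
    · rw [L.om_o, mul_one]
    · exact h1 χ hχ

theorem a_parity {χ : ι} (hχ : χ ∈ B) : 2 ∣ a χ - om u m χ := by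
  rw [L.a_eq χ hχ, om]
  exact ⟨u χ m + ∑ j ∈ Finset.Ioo 0 m, (-1) ^ j * u χ j, by ring⟩

theorem a_even {χ : ι} (hχ : χ ∈ B) (h : χ ∉ supp B (om u m)) : 4 ≤ a χ * a χ := by
  have h0 : om u m χ = 0 := by by_contra h0; exact h (mem_supp.2 ⟨hχ, h0⟩)
  obtain ⟨k, hk⟩ := L.a_parity hχ
  rw [h0, sub_zero] at hk
  have hk0 : k ≠ 0 := fun e => L.a_ne χ hχ (by rw [hk, e, mul_zero])
  rw [hk]
  nlinarith [mul_self_pos.2 hk0]

theorem a_odd {χ : ι} (hχ : χ ∈ supp B (om u m)) : ∃ k : ℤ, a χ = 2 * k + 1 := by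
  obtain ⟨k, hk⟩ := L.a_parity (mem_supp.1 hχ).1
  rcases unit_cases (L.four.2 χ hχ) with e | e <;> rw [e] at hk
  · exact ⟨k, by omega⟩
  · exact ⟨k - 1, by omega⟩

/-- The bound on the characters with even value at `J`. -/
theorem card_rest {U : Finset ι} (hU : U ⊆ B \ supp B (om u m)) (hc : m - 1 ≤ U.card) :
    U = B \ supp B (om u m) ∧ U.card = m - 1 ∧ (∀ χ ∈ U, a χ * a χ = 4) ∧
      ∀ χ ∈ supp B (om u m), a χ * a χ = 1 := by
  have hm := L.two_le
  have hsub : supp B (om u m) ⊆ B := Finset.filter_subset _ _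
  have hsplit := Finset.sum_sdiff (f := fun χ => a χ * a χ) hsub
  rw [L.a_sq] at hsplit
  have hS : ∀ χ ∈ supp B (om u m), 1 ≤ a χ * a χ := fun χ hχ =>
    mul_self_pos.2 (L.a_ne χ (hsub hχ))
  have hT : ∀ χ ∈ B \ supp B (om u m), 4 ≤ a χ * a χ := fun χ hχ =>
    L.a_even (Finset.mem_sdiff.1 hχ).1 (Finset.mem_sdiff.1 hχ).2
  have h1 := Finset.card_nsmul_le_sum _ _ 1 hS
  have h2 := Finset.card_nsmul_le_sum _ _ 4 hT
  rw [L.four.1, nsmul_eq_mul] at h1
  rw [nsmul_eq_mul] at h2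
  push_cast at h1 h2
  have hle : (U.card : ℤ) ≤ ((B \ supp B (om u m)).card : ℤ) :=
    Nat.cast_le.2 (Finset.card_le_card hU)
  have hcz : (m : ℤ) - 1 ≤ (U.card : ℤ) := by omega
  have eS : ∑ χ ∈ supp B (om u m), a χ * a χ = 4 := by linarith
  have eT : ∑ χ ∈ B \ supp B (om u m), a χ * a χ = 4 * ((B \ supp B (om u m)).card : ℤ) := by
    linarith
  have eU : (U.card : ℤ) = ((B \ supp B (om u m)).card : ℤ) := by linarith
  have hUeq := Finset.eq_of_subset_of_card_le hU (le_of_eq (by exact_mod_cast eU.symm))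
  refine ⟨hUeq, ?_, fun χ hχ => ?_, fun χ hχ => ?_⟩
  · have : (U.card : ℤ) = (m : ℤ) - 1 := by linarith
    omega
  · have he := (Finset.sum_eq_sum_iff_of_le hT).1 (by rw [eT, Finset.sum_const, nsmul_eq_mul]; ring)
    exact (he χ (hU hχ)).symm
  · have he := (Finset.sum_eq_sum_iff_of_le hS).1 (by
      rw [eS, Finset.sum_const, L.four.1]; simp)
    exact (he χ hχ).symm

theorem rest_nonempty_two (hm : m = 2) : (B \ supp B (om u m)).Nonempty := by
  rw [Finset.nonempty_iff_ne_empty]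
  intro he
  have hsub : supp B (om u m) ⊆ B := Finset.filter_subset _ _
  have hsplit := Finset.sum_sdiff (f := fun χ => a χ * a χ) hsub
  rw [he, Finset.sum_empty, L.a_sq, zero_add] at hsplit
  have hm4 : (4 : ℤ) * (m : ℤ) = 8 := by rw [hm]; norm_num
  rw [hm4] at hsplit
  have hmod : ∀ χ ∈ supp B (om u m), a χ * a χ = 1 ∨ 9 ≤ a χ * a χ := fun χ hχ => by
    obtain ⟨k, hk⟩ := L.a_odd hχ
    rw [hk]
    rcases eq_or_ne k 0 with rfl | h0
    · left; norm_num
    rcases eq_or_ne k (-1) with rfl | h1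
    · left; norm_num
    · right
      rcases le_or_gt k 0 with h | h
      · have : k ≤ -2 := by omega
        nlinarith
      · have : 1 ≤ k := h
        nlinarith
  by_cases hall : ∀ χ ∈ supp B (om u m), a χ * a χ = 1
  · rw [Finset.sum_congr rfl hall, Finset.sum_const, L.four.1] at hsplit
    simp at hsplit
  · push Not at hall
    obtain ⟨χ, hχ, hne⟩ := hall
    have := Finset.single_le_sum (f := fun χ => a χ * a χ) (fun i _ => mul_self_nonneg (a i)) hχ
    rw [hsplit] at this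
    rcases hmod χ hχ with e | e
    · exact hne e
    · push_cast at this; linarith

theorem sum_four {f : ι → ℤ} : ∑ χ ∈ B, om u m χ * f χ =
    ∑ χ ∈ supp B (om u m), om u m χ * f χ := (sum_supp _ _).symm

theorem orth_om_a : ∑ χ ∈ B, om u m χ * a χ = 0 := by
  simp only [om]
  exact L.orth_a 0 m (Nat.zero_le _) le_rfl (by rw [L.m_even])

theorem orth_om_x : ∑ χ ∈ B, om u m χ * x χ = 0 := by
  simp only [om]
  exact L.orth_x 0 m (Nat.zero_le _) le_rfl (by rw [L.m_even])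

/-- The characters with odd value at `J` other than the trivial one, two named. -/
theorem four_split {c d : ι} (hc : c ∈ supp B (om u m)) (hd : d ∈ supp B (om u m)) (hco : c ≠ o)
    (hdo : d ≠ o) (hcd : c ≠ d) :
    ∃ e, e ∈ supp B (om u m) ∧ e ≠ o ∧ e ≠ c ∧ e ≠ d ∧
      supp B (om u m) = {o, c, d, e} ∧
      ∀ f : ι → ℤ, ∑ χ ∈ B, om u m χ * f χ =
        f o + om u m c * f c + om u m d * f d + om u m e * f e := by
  have ho : o ∈ supp B (om u m) := mem_supp.2 ⟨L.o_mem, by rw [L.om_o]; norm_num⟩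
  have hsub : ({o, c, d} : Finset ι) ⊆ supp B (om u m) := by
    simp [Finset.insert_subset_iff, ho, hc, hd]
  have hc3 : ({o, c, d} : Finset ι).card = 3 := by
    simp [hco.symm, hdo.symm, hcd]
  obtain ⟨e, he⟩ := Finset.card_eq_one.1 (show (supp B (om u m) \ {o, c, d}).card = 1 by
    rw [Finset.card_sdiff_of_subset hsub, L.four.1, hc3])
  have hem : e ∈ supp B (om u m) \ {o, c, d} := he ▸ Finset.mem_singleton_self e
  simp only [Finset.mem_sdiff, Finset.mem_insert, Finset.mem_singleton, not_or] at hem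
  obtain ⟨hes, heo, hec, hed⟩ := hem
  replace heo : e ≠ o := heo
  replace hec : e ≠ c := hec
  replace hed : e ≠ d := hed
  have heq : supp B (om u m) = {o, c, d, e} := by
    refine (Finset.eq_of_subset_of_card_le ?_ ?_).symm
    · simp [Finset.insert_subset_iff, ho, hc, hd, hes]
    · rw [L.four.1]
      simp [hco.symm, hdo.symm, hcd, heo.symm, hec.symm, hed.symm]
  refine ⟨e, hes, heo, hec, hed, heq, fun f => ?_⟩
  rw [L.sum_four, heq, Finset.sum_insert (by simp [hco.symm, hdo.symm, heo.symm]),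
    Finset.sum_insert (by simp [hcd, hec.symm]), Finset.sum_insert (by simp [hed.symm]),
    Finset.sum_singleton, L.om_o]
  ring

end LatData

end Cfsg.Agent.CharTheory.DihedralPrincipal
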