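import Mathlib
import Cfsg.Agent.Lib.CharTheory.DihedralPrincipal.Lattice

/-!
# The two families of exceptional characters
-/

set_option autoImplicit false
set_option linter.unusedSectionVars false

namespace Cfsg.Agent.CharTheory.DihedralPrincipal

variable {ι : Type*} [DecidableEq ι] {B : Finset ι} {o : ι} {u : ι → ℕ → ℤ} {a x : ι → ℤ} {m : ℕ}

/-- `u_j - u_0`. -/
def dv (u : ι → ℕ → ℤ) (j : ℕ) (χ : ι) : ℤ := u χ j - u χ 0

/-- `u_j - u_1`. -/
def ev (u : ι → ℕ → ℤ) (j : ℕ) (χ : ι) : ℤ := u χ j - u χ 1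

/-- The signed value at `J`. -/
def sa (u : ι → ℕ → ℤ) (a : ι → ℤ) (m : ℕ) (χ : ι) : ℤ := om u m χ * a χ

theorem sum_sdiff_singleton (ho : o ∈ B) (f : ι → ℤ) :
    ∑ χ ∈ B, f χ = f o + ∑ χ ∈ B \ {o}, f χ := by
  rw [← Finset.sum_sdiff (Finset.singleton_subset_iff.2 ho), Finset.sum_singleton, add_comm]

namespace LatData

variable (L : LatData B o u a x m)
include L

theorem mem_supp_o : o ∈ supp B (om u m) := mem_supp.2 ⟨L.o_mem, by rw [L.om_o]; norm_num⟩

theorem three_eq_false {c d e : ι} (hc : c ∈ supp B (om u m)) (hd : d ∈ supp B (om u m))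
    (he : e ∈ supp B (om u m)) (hco : c ≠ o) (hdo : d ≠ o) (heo : e ≠ o) (hcd : c ≠ d)
    (hce : c ≠ e) (hde : d ≠ e) (h1 : sa u a m c = sa u a m d) (h2 : sa u a m c = sa u a m e) :
    False := by
  obtain ⟨e', -, -, -, -, heq, hsum⟩ := L.four_split hc hd hco hdo hcd
  have : e = e' := by
    have := he
    rw [heq] at this
    simp only [Finset.mem_insert, Finset.mem_singleton] at this
    rcases this with h | h | h | h
    · exact absurd h heo
    · exact absurd h hce.symm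
    · exact absurd h hde.symm
    · exact h
  subst this
  have h0 := (hsum a).symm.trans L.orth_om_a
  rw [L.a_o] at h0
  simp only [sa] at h1 h2
  omega

/-! ### The even family -/

theorem dv_o {j : ℕ} (h0 : 0 < j) (hj : j ≤ m) : dv u j o = -1 := by
  rw [dv, L.u_o j hj, L.u_o 0 (Nat.zero_le _), if_neg (by omega), if_pos rfl, zero_sub]

theorem dv_inner {j k : ℕ} (hj : 0 < j) (hjm : j < m) (hje : j % 2 = 0) (hk : 0 < k) (hkm : k < m)
    (hke : k % 2 = 0) :
    ∑ χ ∈ B \ {o}, dv u j χ * dv u k χ = if j = k then 2 else 1 := by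
  have h := sum_sdiff_singleton L.o_mem fun χ => dv u j χ * dv u k χ
  have hg : ∑ χ ∈ B, dv u j χ * dv u k χ = if j = k then 3 else 2 := by
    simp only [dv]
    rw [L.gram j 0 k 0 hjm.le (Nat.zero_le _) hkm.le (Nat.zero_le _) (by omega) (by omega)]
    by_cases e : j = k <;> simp [gw, e, show k ≠ 0 by omega, show k ≠ m by omega,
      show (0 : ℕ) ≠ k by omega, show j ≠ 0 by omega]
  rw [L.dv_o hj hjm.le, L.dv_o hk hkm.le] at h
  split_ifs at hg ⊢ <;> omega

theorem om_dv {j : ℕ} (hj : 0 < j) (hjm : j < m) (hje : j % 2 = 0) :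
    ∑ χ ∈ B \ {o}, om u m χ * dv u j χ = -1 := by
  have h := sum_sdiff_singleton L.o_mem fun χ => om u m χ * dv u j χ
  have hg : ∑ χ ∈ B, om u m χ * dv u j χ = -2 := by
    simp only [om, dv]
    rw [L.gram 0 m j 0 (Nat.zero_le _) le_rfl hjm.le (Nat.zero_le _) (by rw [L.m_even]) (by omega)]
    simp [gw, show (0 : ℕ) ≠ j by omega, show m ≠ j by omega, show m ≠ 0 by omega]
  rw [L.dv_o hj hjm.le, L.om_o] at h
  omega

/-- One member of the even family. -/
theorem exists_dv {j : ℕ} (hj : 0 < j) (hjm : j < m) (hje : j % 2 = 0) :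
    ∃ c Y, c ∈ supp B (om u m) ∧ c ≠ o ∧ Y ∈ B \ supp B (om u m) ∧
      Two (B \ {o}) (dv u j) c Y ∧ dv u j c = -om u m c ∧
      dv u j Y * a Y = 1 + sa u a m c ∧ dv u j Y * x Y = 1 + om u m c * x c := by
  obtain ⟨p, q, t⟩ := exists_two (show ∑ χ ∈ B \ {o}, dv u j χ * dv u j χ = 2 by
    rw [L.dv_inner hj hjm hje hj hjm hje, if_pos rfl])
  have hmix : ∀ p q, Two (B \ {o}) (dv u j) p q → p ∈ supp B (om u m) →
      q ∉ supp B (om u m) ∧ dv u j p = -om u m p := by
    intro p q t hp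
    have h := t.sum (om u m)
    rw [Finset.sum_congr rfl fun χ _ => mul_comm (dv u j χ) (om u m χ), L.om_dv hj hjm hje] at h
    have h1 := L.four.2 p hp
    by_cases hq : q ∈ supp B (om u m)
    · exfalso
      rcases unit_cases t.sp with a1 | a1 <;> rcases unit_cases t.sq with a2 | a2 <;>
        rcases unit_cases h1 with a3 | a3 <;> rcases unit_cases (L.four.2 q hq) with a4 | a4 <;>
        rw [a1, a2, a3, a4] at h <;> norm_num at h
    · refine ⟨hq, ?_⟩
      have h0 : om u m q = 0 := by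
        by_contra h0
        exact hq (mem_supp.2 ⟨(Finset.mem_sdiff.1 t.hq).1, h0⟩)
      rw [h0, mul_zero, add_zero] at h
      rcases unit_cases h1 with a3 | a3 <;> rw [a3] at h ⊢ <;> omega
  have key : ∀ p q, Two (B \ {o}) (dv u j) p q → p ∈ supp B (om u m) →
      ∃ c Y, c ∈ supp B (om u m) ∧ c ≠ o ∧ Y ∈ B \ supp B (om u m) ∧
      Two (B \ {o}) (dv u j) c Y ∧ dv u j c = -om u m c ∧
      dv u j Y * a Y = 1 + sa u a m c ∧ dv u j Y * x Y = 1 + om u m c * x c := by
    intro p q t hp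
    obtain ⟨hq, hc⟩ := hmix p q t hp
    have hpo : p ≠ o := fun e => (Finset.mem_sdiff.1 t.hp).2 (by simp [e])
    have ha := sum_sdiff_singleton L.o_mem fun χ => dv u j χ * a χ
    have hx := sum_sdiff_singleton L.o_mem fun χ => dv u j χ * x χ
    rw [t.sum] at ha hx
    simp only [L.dv_o hj hjm.le, L.a_o, L.x_o] at ha hx
    have ea : ∑ χ ∈ B, dv u j χ * a χ = 0 := by
      simp only [dv]; exact L.orth_a j 0 hjm.le (Nat.zero_le _) (by omega)
    have ex : ∑ χ ∈ B, dv u j χ * x χ = 0 := by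
      simp only [dv]; exact L.orth_x j 0 hjm.le (Nat.zero_le _) (by omega)
    rw [hc] at ha hx
    refine ⟨p, q, hp, hpo, Finset.mem_sdiff.2 ⟨(Finset.mem_sdiff.1 t.hq).1, hq⟩, t, hc, ?_, ?_⟩
    · simp only [sa]
      have : -om u m p * a p = -(om u m p * a p) := neg_mul _ _
      omega
    · have : -om u m p * x p = -(om u m p * x p) := neg_mul _ _
      omega
  by_cases hp : p ∈ supp B (om u m)
  · exact key p q t hp
  · refine key q p t.symm ?_
    by_contra hq
    have h := t.sum (om u m)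
    rw [Finset.sum_congr rfl fun χ _ => mul_comm (dv u j χ) (om u m χ), L.om_dv hj hjm hje] at h
    have h0 : ∀ χ ∈ B \ {o}, χ ∉ supp B (om u m) → om u m χ = 0 := fun χ hχ hn => by
      by_contra h0; exact hn (mem_supp.2 ⟨(Finset.mem_sdiff.1 hχ).1, h0⟩)
    rw [h0 p t.hp hp, h0 q t.hq hq] at h
    norm_num at h

/-- Two members of the even family have different second constituents. -/
theorem dv_injective {j k : ℕ} (hj : 0 < j) (hjm : j < m) (hje : j % 2 = 0) (hk : 0 < k)
    (hkm : k < m) (hke : k % 2 = 0) (hjk : j ≠ k) {c c' Y Y' : ι}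
    (hc : c ∈ supp B (om u m)) (hco : c ≠ o) (hY : Y ∈ B \ supp B (om u m))
    (t : Two (B \ {o}) (dv u j) c Y) (ea : dv u j Y * a Y = 1 + sa u a m c)
    (hc' : c' ∈ supp B (om u m)) (hco' : c' ≠ o) (hY' : Y' ∈ B \ supp B (om u m))
    (t' : Two (B \ {o}) (dv u k) c' Y') (ea' : dv u k Y' * a Y' = 1 + sa u a m c') : Y ≠ Y' := by
  rintro rfl
  -- a third member of the family
  have hm8 : 8 ≤ m := by rcases L.m_cases with h | h | h <;> omega
  have hone : ∀ {i i' : ℕ} {c c' Y Y' : ι}, 0 < i → i < m → i % 2 = 0 → 0 < i' → i' < m →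
      i' % 2 = 0 → i ≠ i' → c ∈ supp B (om u m) → Y ∈ B \ supp B (om u m) →
      Two (B \ {o}) (dv u i) c Y → c' ∈ supp B (om u m) → Y' ∈ B \ supp B (om u m) →
      Two (B \ {o}) (dv u i') c' Y' →
      (c = c' ∧ Y ≠ Y') ∨ (c ≠ c' ∧ Y = Y' ∧ dv u i Y = dv u i' Y') := by
    intro i i' c c' Y Y' h1 h2 h3 h4 h5 h6 h7 hc hY t hc' hY' t'
    have h := L.dv_inner h1 h2 h3 h4 h5 h6
    rw [if_neg h7] at h
    have hcY : ∀ {c Y : ι}, c ∈ supp B (om u m) → Y ∈ B \ supp B (om u m) → c ≠ Y :=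
      fun {c Y} hc hY e => (Finset.mem_sdiff.1 hY).2 (e ▸ hc)
    rcases t.share t' h with ⟨e1, e2⟩ | ⟨e1, e2⟩
    · rcases t'.support t.hp (e1 ▸ t.ne_zero.1) with e | e
      · exact Or.inl ⟨e, fun e3 => t'.ne_zero.2 (e3 ▸ e2)⟩
      · exact absurd e (hcY hc hY')
    · rcases t'.support t.hq (e1 ▸ t.ne_zero.2) with e | e
      · exact absurd e.symm (hcY hc' hY)
      · exact Or.inr ⟨fun e3 => t'.ne_zero.1 (e3 ▸ e2), e, e ▸ e1⟩
  rcases hone hj hjm hje hk hkm hke hjk hc hY t hc' hY t' with ⟨-, h⟩ | ⟨hcc, -, hd⟩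
  · exact h rfl
  obtain ⟨l, hl, hlm, hle, hlj, hlk⟩ : ∃ l, 0 < l ∧ l < m ∧ l % 2 = 0 ∧ l ≠ j ∧ l ≠ k := by
    by_cases h2 : (2 = j ∨ 2 = k)
    · by_cases h4 : (4 = j ∨ 4 = k)
      · exact ⟨6, by omega, by omega, by norm_num, by omega, by omega⟩
      · exact ⟨4, by omega, by omega, by norm_num, by omega, by omega⟩
    · exact ⟨2, by omega, by omega, by norm_num, by omega, by omega⟩
  obtain ⟨cl, Yl, hcl, hclo, hYl, tl, -, eal, -⟩ := L.exists_dv hl hlm hle
  rcases hone hl hlm hle hj hjm hje hlj hcl hYl tl hc hY t with ⟨e1, e2⟩ | ⟨e1, e2, e3⟩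
  · rcases hone hl hlm hle hk hkm hke hlk hcl hYl tl hc' hY t' with ⟨e4, -⟩ | ⟨-, e5, -⟩
    · exact hcc (e1.symm.trans e4)
    · exact e2 e5
  rcases hone hl hlm hle hk hkm hke hlk hcl hYl tl hc' hY t' with ⟨-, e5⟩ | ⟨e4, -, -⟩
  · exact e5 e2
  refine L.three_eq_false hc hc' hcl hco hco' hclo hcc e1.symm e4.symm ?_ ?_
  · have : dv u j Y * a Y = dv u k Y * a Y := by rw [hd]
    omega
  · have : dv u j Y * a Y = dv u l Yl * a Yl := by rw [e3, e2]
    omega

/-! ### The odd family -/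

theorem ev_inner {j k : ℕ} (hj : 1 < j) (hjm : j < m) (hjo : j % 2 = 1) (hk : 1 < k) (hkm : k < m)
    (hko : k % 2 = 1) : ∑ χ ∈ B, ev u j χ * ev u k χ = if j = k then 2 else 1 := by
  simp only [ev]
  rw [L.gram j 1 k 1 hjm.le (by omega) hkm.le (by omega) (by omega) (by omega)]
  by_cases e : j = k <;> simp [gw, e, show k ≠ 0 by omega, show k ≠ m by omega,
    show (1 : ℕ) ≠ k by omega, show k ≠ 1 by omega, show (1 : ℕ) ≠ m by omega, show j ≠ 1 by omega]

theorem om_ev {j : ℕ} (hj : 1 < j) (hjm : j < m) (hjo : j % 2 = 1) :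
    ∑ χ ∈ B, om u m χ * ev u j χ = 0 := by
  simp only [om, ev]
  rw [L.gram 0 m j 1 (Nat.zero_le _) le_rfl hjm.le (by omega) (by rw [L.m_even]) (by omega)]
  simp [gw, show (0 : ℕ) ≠ j by omega, show m ≠ j by omega, show m ≠ 1 by omega]

theorem dv_ev {i j : ℕ} (hi : 0 < i) (him : i < m) (hie : i % 2 = 0) (hj : 1 < j) (hjm : j < m)
    (hjo : j % 2 = 1) : ∑ χ ∈ B, dv u i χ * ev u j χ = 0 := by
  simp only [dv, ev]
  rw [L.gram i 0 j 1 him.le (Nat.zero_le _) hjm.le (by omega) (by omega) (by omega)]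
  simp [gw, show i ≠ j by omega, show i ≠ 1 by omega, show (0 : ℕ) ≠ j by omega]

theorem ev_o {j : ℕ} (hj : 1 < j) (hjm : j < m) : ev u j o = 0 := by
  rw [ev, L.u_o j hjm.le, L.u_o 1 (by omega), if_neg (by omega), if_neg one_ne_zero, sub_zero]

theorem ev_a {j : ℕ} (hjm : j < m) (hj : 1 < j) (hjo : j % 2 = 1) {p q : ι}
    (t : Two B (ev u j) p q) : ev u j p * a p + ev u j q * a q = 0 := by
  rw [← t.sum]
  simp only [ev]
  exact L.orth_a j 1 hjm.le (by omega) (by omega)

/-- A member of the odd family with a constituent in the four. -/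
theorem ev_four {j : ℕ} (hjm : j < m) (hj : 1 < j) (hjo : j % 2 = 1) {p q : ι}
    (t : Two B (ev u j) p q) (hp : p ∈ supp B (om u m)) :
    q ∈ supp B (om u m) ∧ p ≠ o ∧ q ≠ o ∧ sa u a m p = sa u a m q := by
  have h := t.sum (om u m)
  rw [Finset.sum_congr rfl fun χ _ => mul_comm (ev u j χ) (om u m χ), L.om_ev hj hjm hjo] at h
  have h1 := L.four.2 p hp
  have hq : q ∈ supp B (om u m) := by
    refine mem_supp.2 ⟨t.hq, fun h0 => ?_⟩
    rw [h0, mul_zero, add_zero, eq_comm, mul_eq_zero] at h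
    rcases h with h | h
    · exact t.ne_zero.1 h
    · rw [h] at h1; norm_num at h1
  refine ⟨hq, fun e => t.ne_zero.1 (e ▸ L.ev_o hj hjm), fun e => t.ne_zero.2 (e ▸ L.ev_o hj hjm), ?_⟩
  have ha := L.ev_a hjm hj hjo t
  have h2 := L.four.2 q hq
  simp only [sa]
  rcases unit_cases t.sp with a1 | a1 <;> rcases unit_cases t.sq with a2 | a2 <;>
    rcases unit_cases h1 with a3 | a3 <;> rcases unit_cases h2 with a4 | a4 <;>
    simp only [a1, a2, a3, a4, neg_mul, one_mul, mul_one, mul_neg, neg_neg] at h ha ⊢ <;> omega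

/-- The exceptional pattern for `m = 4` does not occur. -/
theorem not_special (h4 : m = 4) {p q : ι} (t : Two B (ev u 3) p q)
    (hp : p ∈ supp B (om u m)) : False := by
  obtain ⟨hq, hpo, hqo, hpq⟩ := L.ev_four (by omega) (by norm_num) rfl t hp
  obtain ⟨c, Y, hc, hco, hY, td, hdc, eaY, exY⟩ :=
    L.exists_dv (j := 2) two_pos (by omega) rfl
  have hYB := (Finset.mem_sdiff.1 hY).1
  have hYp : Y ≠ p := fun e => (Finset.mem_sdiff.1 hY).2 (e ▸ hp)
  have hYq : Y ≠ q := fun e => (Finset.mem_sdiff.1 hY).2 (e ▸ hq)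
  have hde := L.dv_ev (i := 2) two_pos (by omega) rfl (j := 3) (by norm_num) (by omega) rfl
  rw [sum_sdiff_singleton L.o_mem, td.sum, L.ev_o (by norm_num) (by omega),
    t.off Y hYB hYp hYq, mul_zero, mul_zero, zero_add, add_zero] at hde
  have hEc : ev u 3 c = 0 := (mul_eq_zero.1 hde).resolve_left td.ne_zero.1
  have hcp : c ≠ p := fun e => t.ne_zero.1 (e ▸ hEc)
  have hcq : c ≠ q := fun e => t.ne_zero.2 (e ▸ hEc)
  obtain ⟨q', -, hq'o, hq'c, hq'p, heq, hsum⟩ := L.four_split hc hp hco hpo hcp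
  have : q = q' := by
    have := hq
    rw [heq] at this
    simp only [Finset.mem_insert, Finset.mem_singleton] at this
    rcases this with h | h | h | h
    · exact absurd h hqo
    · exact absurd h hcq.symm
    · exact absurd h t.ne.symm
    · exact h
  subst this
  -- congruences
  have hI : ∀ χ ∈ B, a χ = u χ 0 + u χ m + 2 * (-u χ 1 + u χ 2 - u χ 3) := fun χ hχ => by
    rw [L.a_eq χ hχ, h4, show Finset.Ioo 0 4 = ({1, 2, 3} : Finset ℕ) from rfl]
    simp only [Finset.sum_insert (show (1 : ℕ) ∉ ({2, 3} : Finset ℕ) by simp),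
      Finset.sum_insert (show (2 : ℕ) ∉ ({3} : Finset ℕ) by simp), Finset.sum_singleton]
    ring
  have hA : ∀ χ ∈ supp B (om u m), χ ≠ o → (χ = c ∨ χ = p ∨ χ = q) →
      ∃ k : ℤ, sa u a m χ = 4 * k + 1 := by
    intro χ hχ hχo hcases
    have hχB := (mem_supp.1 hχ).1
    have e1 := hI χ hχB
    have hmem : χ ∈ B \ {o} := Finset.mem_sdiff.2 ⟨hχB, by simp [hχo]⟩
    have hom := L.four.2 χ hχ
    simp only [sa, om] at hom ⊢
    rcases hcases with rfl | hh
    · simp only [dv, om] at hdc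
      simp only [ev] at hEc
      rcases unit_cases hom with e | e <;> rw [e] at hdc ⊢
      · exact ⟨u χ 0 - u χ 1 - 1, by omega⟩
      · exact ⟨-(u χ 0 - u χ 1) - 1, by omega⟩
    · have hd0 : dv u 2 χ = 0 := td.off χ hmem
        (by rcases hh with rfl | rfl <;> first | exact hcp.symm | exact hcq.symm)
        (fun e => (Finset.mem_sdiff.1 hY).2 (e ▸ hχ))
      have hE : ev u 3 χ * ev u 3 χ = 1 := by
        rcases hh with rfl | rfl
        · exact t.sp
        · exact t.sq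
      simp only [dv] at hd0
      simp only [ev] at hE
      rcases unit_cases hom with e | e <;> rw [e] <;> rcases unit_cases hE with e' | e'
      · exact ⟨u χ 0 - u χ 1 - 1, by omega⟩
      · exact ⟨u χ 0 - u χ 1, by omega⟩
      · exact ⟨-(u χ 0 - u χ 1), by omega⟩
      · exact ⟨-(u χ 0 - u χ 1) - 1, by omega⟩
  obtain ⟨k, hk⟩ := hA p hp hpo (Or.inr (Or.inl rfl))
  have ha0 := (hsum a).symm.trans L.orth_om_a
  have hx0 := (hsum x).symm.trans L.orth_om_x
  rw [L.a_o] at ha0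
  rw [L.x_o] at hx0
  have hU : insert Y (supp B (om u m)) ⊆ B :=
    Finset.insert_subset hYB (Finset.filter_subset _ _)
  have hfive : ∀ f : ι → ℤ, ∑ χ ∈ insert Y (supp B (om u m)), f χ =
      f Y + f o + f c + f p + f q := fun f => by
    rw [Finset.sum_insert (Finset.mem_sdiff.1 hY).2, heq,
      Finset.sum_insert (by simp [hco.symm, hpo.symm, hqo.symm]),
      Finset.sum_insert (by simp [hcp, hcq]), Finset.sum_insert (by simp [t.ne]),
      Finset.sum_singleton]
    ring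
  have hsq : ∀ χ ∈ supp B (om u m), a χ * a χ = sa u a m χ * sa u a m χ := fun χ hχ => by
    simp only [sa]
    linear_combination (-(a χ * a χ)) * L.four.2 χ hχ
  have hY2 : a Y * a Y = (1 + sa u a m c) * (1 + sa u a m c) := by
    rw [← eaY]
    linear_combination (-(a Y * a Y)) * td.sq
  have hc' : sa u a m c = -1 - 2 * sa u a m p := by
    simp only [sa] at hpq ⊢; omega
  have hbound := Finset.sum_le_sum_of_subset_of_nonneg hU
    fun χ (_ : χ ∈ B) _ => mul_self_nonneg (a χ)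
  rw [hfive fun χ => a χ * a χ, L.a_sq, L.a_o, hY2, hsq c hc, hsq p hp, hsq q hq, ← hpq, hc', hk,
    show (4 : ℤ) * (m : ℤ) = 16 by rw [h4]; norm_num] at hbound
  have hk0 : k = 0 := by
    rcases lt_trichotomy k 0 with h | h | h
    · nlinarith
    · exact h
    · nlinarith
  subst hk0
  have hAp : sa u a m p = 1 := by omega
  have hAc : sa u a m c = -3 := by omega
  -- nothing else occurs
  have hBeq : insert Y (supp B (om u m)) = B := by
    refine Finset.Subset.antisymm hU fun χ hχ => ?_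
    by_contra hn
    have h1 := Finset.sum_le_sum_of_subset_of_nonneg (Finset.insert_subset hχ hU)
      fun χ (_ : χ ∈ B) _ => mul_self_nonneg (a χ)
    rw [Finset.sum_insert hn, hfive fun χ => a χ * a χ, L.a_sq, L.a_o, hY2, hsq c hc, hsq p hp,
      hsq q hq, ← hpq, hAc, hAp, show (4 : ℤ) * (m : ℤ) = 16 by rw [h4]; norm_num] at h1
    have := mul_self_pos.2 (L.a_ne χ hχ)
    linarith
  have hax := L.a_x
  rw [← hBeq, hfive fun χ => a χ * x χ, L.a_o, L.x_o] at hax
  have ec : a c = -3 * om u m c := by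
    have := hAc; simp only [sa] at this
    linear_combination (om u m c) * this - a c * L.four.2 c hc
  have ep : a p = om u m p := by
    have := hAp; simp only [sa] at this
    linear_combination (om u m p) * this - a p * L.four.2 p hp
  have eq' : a q = om u m q := by
    have := hpq.symm.trans hAp; simp only [sa] at this
    linear_combination (om u m q) * this - a q * L.four.2 q hq
  have eY : a Y = -2 * dv u 2 Y := by
    have := eaY
    rw [hAc] at this
    linear_combination (dv u 2 Y) * this - a Y * td.sq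
  rw [ec, ep, eq', eY] at hax
  have e1 : -2 * dv u 2 Y * x Y = -2 * (1 + om u m c * x c) := by rw [← exY]; ring
  rw [e1] at hax
  have h6 : 6 * (om u m c * x c) = -2 := by linarith
  omega

/-- The odd family avoids the four. -/
theorem ev_rest {j : ℕ} (hjm : j < m) (hj : 1 < j) (hjo : j % 2 = 1) {p q : ι}
    (t : Two B (ev u j) p q) : p ∈ B \ supp B (om u m) := by
  refine Finset.mem_sdiff.2 ⟨t.hp, fun hp => ?_⟩
  rcases L.m_cases with h | h4 | h8
  · omega
  · obtain rfl : j = 3 := by omega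
    exact L.not_special h4 t hp
  obtain ⟨hq, hpo, hqo, hpq⟩ := L.ev_four hjm hj hjo t hp
  obtain ⟨k, hk, hkm, hko, hkj⟩ : ∃ k, 1 < k ∧ k < m ∧ k % 2 = 1 ∧ k ≠ j := by
    by_cases h3 : j = 3
    · exact ⟨5, by omega, by omega, rfl, by omega⟩
    · exact ⟨3, by omega, by omega, rfl, fun e => h3 e.symm⟩
  obtain ⟨p', q', t'⟩ := exists_two (show ∑ χ ∈ B, ev u k χ * ev u k χ = 2 by
    rw [L.ev_inner hk hkm hko hk hkm hko, if_pos rfl])
  have hin := L.ev_inner hj hjm hjo hk hkm hko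
  rw [if_neg hkj.symm] at hin
  -- the shared constituent is one of the four
  have key : ∀ {p q : ι}, Two B (ev u j) p q → p ∈ supp B (om u m) → q ∈ supp B (om u m) →
      p ≠ o → q ≠ o → sa u a m p = sa u a m q → ev u j p = ev u k p → ev u k q = 0 → False := by
    intro p q t hp hq hpo hqo hpq e1 e2
    have : ∀ {p' q' : ι}, Two B (ev u k) p' q' → p = p' → False := by
      rintro p' q' t' rfl
      obtain ⟨hq', -, hq'o, hpq'⟩ := L.ev_four hkm hk hko t' hp
      exact L.three_eq_false hp hq hq' hpo hqo hq'o t.ne t'.ne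
        (fun e => t'.ne_zero.2 (e ▸ e2)) hpq hpq'
    rcases t'.support t.hp (e1 ▸ t.ne_zero.1) with e | e
    · exact this t' e
    · exact this t'.symm e
  rcases t.share t' hin with ⟨e1, e2⟩ | ⟨e1, e2⟩
  · exact key t hp hq hpo hqo hpq e1 e2
  · exact key t.symm hq hp hqo hpo hpq.symm e1 e2

/-- The common constituent of the odd family. -/
theorem exists_center (hm : 4 ≤ m) : ∃ (X1 : ι) (s : ℤ), X1 ∈ B \ supp B (om u m) ∧ s * s = 1 ∧
    ∀ j, 1 < j → j < m → j % 2 = 1 →
      ∃ X, X ∈ B \ supp B (om u m) ∧ Two B (ev u j) X1 X ∧ ev u j X1 = s := by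
  have hex : ∀ j, 1 < j → j < m → j % 2 = 1 → ∃ p q, Two B (ev u j) p q := fun j h1 h2 h3 =>
    exists_two (by rw [L.ev_inner h1 h2 h3 h1 h2 h3, if_pos rfl])
  obtain ⟨p, q, t⟩ := hex 3 (by norm_num) (by omega) rfl
  rcases L.m_cases with h | h4 | h8
  · omega
  · refine ⟨p, ev u 3 p, L.ev_rest (by omega) (by norm_num) rfl t, t.sp, fun j h1 h2 h3 => ?_⟩
    obtain rfl : j = 3 := by omega
    exact ⟨q, L.ev_rest (by omega) (by norm_num) rfl t.symm, t, rfl⟩
  obtain ⟨p5, q5, t5⟩ := hex 5 (by norm_num) (by omega) rfl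
  have key : ∀ {p q : ι}, Two B (ev u 3) p q → ev u 3 p = ev u 5 p → ev u 5 q = 0 →
      ∃ (X1 : ι) (s : ℤ), X1 ∈ B \ supp B (om u m) ∧ s * s = 1 ∧
      ∀ j, 1 < j → j < m → j % 2 = 1 →
        ∃ X, X ∈ B \ supp B (om u m) ∧ Two B (ev u j) X1 X ∧ ev u j X1 = s := by
    intro p q t e1 e2
    obtain ⟨r, tr⟩ : ∃ r, Two B (ev u 5) p r := by
      rcases t5.support t.hp (e1 ▸ t.ne_zero.1) with e | e
      · exact ⟨q5, e ▸ t5⟩
      · exact ⟨p5, e ▸ t5.symm⟩
    refine ⟨p, ev u 3 p, L.ev_rest (by omega) (by norm_num) rfl t, t.sp, fun j h1 h2 h3 => ?_⟩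
    obtain ⟨p', q', t'⟩ := hex j h1 h2 h3
    have hp : ev u j p = ev u 3 p := by
      by_cases hj3 : j = 3
      · rw [hj3]
      by_cases hj5 : j = 5
      · rw [hj5, e1]
      have i3 := L.ev_inner (j := 3) (by norm_num) (by omega) rfl h1 h2 h3
      rw [if_neg (Ne.symm hj3)] at i3
      have i5 := L.ev_inner (j := 5) (by norm_num) (by omega) rfl h1 h2 h3
      rw [if_neg (Ne.symm hj5)] at i5
      rcases t.share t' i3 with ⟨g1, -⟩ | ⟨g1, g2⟩
      · exact g1.symm
      exfalso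
      rcases tr.share t' i5 with ⟨g3, -⟩ | ⟨g3, -⟩
      · exact tr.ne_zero.1 (g3.trans g2)
      have hqr : q ≠ r := fun e => tr.ne_zero.2 (e ▸ e2)
      have a3 := L.ev_a (by omega) (by norm_num) rfl t
      have a5 := L.ev_a (by omega) (by norm_num) rfl tr
      have aj : ev u j q * a q + ev u j r * a r = 0 := by
        have h := t'.sum a
        have h0 : ∑ χ ∈ B, ev u j χ * a χ = 0 := by
          simp only [ev]; exact L.orth_a j 1 h2.le (by omega) (by omega)
        rw [h0] at h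
        rcases t'.support t.hq (g1 ▸ t.ne_zero.2) with e | e <;>
          rcases t'.support tr.hq (g3 ▸ tr.ne_zero.2) with e' | e'
        · exact absurd (e.trans e'.symm) hqr
        · rw [e, e']; exact h.symm
        · rw [e, e', add_comm]; exact h.symm
        · exact absurd (e.trans e'.symm) hqr
      rw [← g1, ← g3] at aj
      rw [← e1] at a5
      refine L.a_ne p t.hp ?_
      have : ev u 3 p * a p = 0 := by omega
      exact (mul_eq_zero.1 this).resolve_left t.ne_zero.1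
    have hne : ev u j p ≠ 0 := hp ▸ t.ne_zero.1
    rcases t'.support t.hp hne with e | e
    · subst e; exact ⟨q', L.ev_rest h2 h1 h3 t'.symm, t', hp⟩
    · subst e; exact ⟨p', L.ev_rest h2 h1 h3 t', t'.symm, hp⟩
  have hin := L.ev_inner (j := 3) (by norm_num) (by omega) rfl (k := 5) (by norm_num) (by omega) rfl
  rw [if_neg (by norm_num)] at hin
  rcases t.share t5 hin with ⟨e1, e2⟩ | ⟨e1, e2⟩
  · exact key t e1 e2
  · exact key t.symm e1 e2

end LatData

end Cfsg.Agent.CharTheory.DihedralPrincipal
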