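import Mathlib
import Cfsg.Agent.Lib.CharTheory.DihedralPrincipal.Families

/-!
# The table of the principal block
-/

set_option autoImplicit false
set_option linter.unusedSectionVars false

namespace Cfsg.Agent.CharTheory.DihedralPrincipal

variable {ι : Type*} [DecidableEq ι] {B : Finset ι} {o : ι} {u : ι → ℕ → ℤ} {a x : ι → ℤ} {m : ℕ}

/-- The shape of the principal block. -/
structure LatTable (B : Finset ι) (o : ι) (u : ι → ℕ → ℤ) (a : ι → ℤ) (m : ℕ)
    (c1 c2 c3 : ι) (d1 d2 d3 : ℤ) (X : ℕ → ι) : Prop where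
  sq1 : d1 * d1 = 1
  sq2 : d2 * d2 = 1
  sq3 : d3 * d3 = 1
  ne1 : c1 ≠ o
  ne2 : c2 ≠ o
  ne3 : c3 ≠ o
  ne12 : c1 ≠ c2
  ne13 : c1 ≠ c3
  ne23 : c2 ≠ c3
  X_inj : ∀ j k, 0 < j → j < m → 0 < k → k < m → X j = X k → j = k
  X_ne : ∀ j, 0 < j → j < m → X j ≠ o ∧ X j ≠ c1 ∧ X j ≠ c2 ∧ X j ≠ c3
  mem : ∀ χ, χ ∈ B ↔ χ = o ∨ χ = c1 ∨ χ = c2 ∨ χ = c3 ∨ ∃ j, 0 < j ∧ j < m ∧ χ = X j
  om_eq : ∀ χ ∈ B, u χ 0 - u χ m = (if χ = o then 1 else 0) + (if χ = c1 then d1 else 0) +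
    (if χ = c2 then d2 else 0) + (if χ = c3 then d3 else 0)
  even_eq : ∀ j, 0 < j → j < m → j % 2 = 0 → ∀ χ ∈ B, u χ j - u χ 0 =
    (if χ = o then -1 else 0) + (if χ = c1 then -d1 else 0) + (if χ = X j then d1 else 0)
  odd_eq : ∀ j, 0 < j → j < m → j % 2 = 1 → ∀ χ ∈ B, u χ j - u χ 1 =
    (if χ = X j then d1 else 0) - (if χ = X 1 then d1 else 0)
  a1 : a c1 = d1
  a2 : a c2 = -d2
  a3 : a c3 = -d3
  aX : ∀ j, 0 < j → j < m → a (X j) = 2 * d1 * (-1) ^ j

namespace LatData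

variable (L : LatData B o u a x m)
include L

theorem exists_map : ∃ Y : ℕ → ι,
    (∀ j, 0 < j → j < m → j % 2 = 0 → Y j ∈ B \ supp B (om u m) ∧
      ∃ c, c ∈ supp B (om u m) ∧ c ≠ o ∧ Two (B \ {o}) (dv u j) c (Y j) ∧
        dv u j c = -om u m c ∧ dv u j (Y j) * a (Y j) = 1 + sa u a m c ∧
        dv u j (Y j) * x (Y j) = 1 + om u m c * x c) ∧
    Y 1 ∈ B \ supp B (om u m) ∧
    ∃ s : ℤ, s * s = 1 ∧ ∀ j, 1 < j → j < m → j % 2 = 1 →
      Y j ∈ B \ supp B (om u m) ∧ Two B (ev u j) (Y 1) (Y j) ∧ ev u j (Y 1) = s := by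
  classical
  have hsome : ∀ j, ∃ Z, 0 < j → j < m → j % 2 = 0 → Z ∈ B \ supp B (om u m) ∧
      ∃ c, c ∈ supp B (om u m) ∧ c ≠ o ∧ Two (B \ {o}) (dv u j) c Z ∧ dv u j c = -om u m c ∧
        dv u j Z * a Z = 1 + sa u a m c ∧ dv u j Z * x Z = 1 + om u m c * x c := by
    intro j
    by_cases hj : 0 < j ∧ j < m ∧ j % 2 = 0
    · obtain ⟨c, Z, h1, h2, h3, h4, h5, h6, h7⟩ := L.exists_dv hj.1 hj.2.1 hj.2.2
      exact ⟨Z, fun _ _ _ => ⟨h3, c, h1, h2, h4, h5, h6, h7⟩⟩
    · exact ⟨o, fun a b c => absurd ⟨a, b, c⟩ hj⟩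
  choose Z hZ using hsome
  rcases L.m_cases with h2 | h
  · obtain ⟨W, hW⟩ := L.rest_nonempty_two h2
    exact ⟨fun j => if j = 1 then W else Z j,
      fun j h1 h2 h3 => by
        simp only [if_neg (show j ≠ 1 by omega)]
        exact hZ j h1 h2 h3,
      by simpa using hW, 1, by norm_num, fun j a b => absurd b (by omega)⟩
  obtain ⟨X1, s, hX1, hs, hX⟩ := L.exists_center (by omega)
  have hsome' : ∀ j, ∃ W, 1 < j → j < m → j % 2 = 1 →
      W ∈ B \ supp B (om u m) ∧ Two B (ev u j) X1 W ∧ ev u j X1 = s := by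
    intro j
    by_cases hj : 1 < j ∧ j < m ∧ j % 2 = 1
    · obtain ⟨W, hW⟩ := hX j hj.1 hj.2.1 hj.2.2
      exact ⟨W, fun _ _ _ => hW⟩
    · exact ⟨o, fun a b c => absurd ⟨a, b, c⟩ hj⟩
  choose W hW using hsome'
  refine ⟨fun j => if j = 1 then X1 else if j % 2 = 0 then Z j else W j,
    fun j h1 h2 h3 => by simp only [if_neg (show j ≠ 1 by omega), if_pos h3]; exact hZ j h1 h2 h3,
    by simpa using hX1, s, hs, fun j h1 h2 h3 => ?_⟩
  simp only [if_neg (show j ≠ 1 by omega), if_neg (show j % 2 ≠ 0 by omega), if_pos]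
  exact hW j h1 h2 h3

theorem exists_table : ∃ c1 c2 c3 d1 d2 d3, ∃ X, LatTable B o u a m c1 c2 c3 d1 d2 d3 X := by
  classical
  obtain ⟨Y, hD, hY1, s, hs, hE⟩ := L.exists_map
  have hm := L.two_le
  have hme := L.m_even
  have hYmem : ∀ j, 0 < j → j < m → Y j ∈ B \ supp B (om u m) := fun j h1 h2 => by
    rcases Nat.mod_two_eq_zero_or_one j with h | h
    · exact (hD j h1 h2 h).1
    · rcases eq_or_ne j 1 with rfl | hne
      · exact hY1
      · exact (hE j (by omega) h2 h).1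
  have hmix : ∀ i j, 0 < i → i < m → i % 2 = 0 → 0 < j → j < m → j % 2 = 1 → Y i ≠ Y j := by
    intro i j hi him hie hj hjm hjo e
    obtain ⟨-, c, hc, hco, t, -, -, -⟩ := hD i hi him hie
    obtain ⟨k, hk, hkm, hko, hkY⟩ : ∃ k, 1 < k ∧ k < m ∧ k % 2 = 1 ∧ ev u k (Y j) ≠ 0 := by
      rcases eq_or_ne j 1 with rfl | hne
      · exact ⟨3, by norm_num, by omega, rfl, (hE 3 (by norm_num) (by omega) rfl).2.1.ne_zero.1⟩
      · exact ⟨j, by omega, hjm, hjo, (hE j (by omega) hjm hjo).2.1.ne_zero.2⟩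
    have hde := L.dv_ev hi him hie hk hkm hko
    rw [sum_sdiff_singleton L.o_mem, t.sum, L.ev_o hk hkm, mul_zero, zero_add] at hde
    obtain ⟨hk1, tk, -⟩ := hE k hk hkm hko
    have hc0 : ev u k c = 0 := tk.off c (mem_supp.1 hc).1
      (fun e' => (Finset.mem_sdiff.1 hY1).2 (e' ▸ hc))
      (fun e' => (Finset.mem_sdiff.1 hk1).2 (e' ▸ hc))
    rw [hc0, mul_zero, zero_add] at hde
    exact hkY (e ▸ (mul_eq_zero.1 hde).resolve_left t.ne_zero.2)
  have hinj : ∀ j k, 0 < j → j < m → 0 < k → k < m → Y j = Y k → j = k := by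
    intro j k hj hjm hk hkm e
    by_contra hne
    rcases Nat.mod_two_eq_zero_or_one j with hj2 | hj2 <;>
      rcases Nat.mod_two_eq_zero_or_one k with hk2 | hk2
    · obtain ⟨hY, c, hc, hco, t, -, ea, -⟩ := hD j hj hjm hj2
      obtain ⟨hY', c', hc', hco', t', -, ea', -⟩ := hD k hk hkm hk2
      exact L.dv_injective hj hjm hj2 hk hkm hk2 hne hc hco hY t ea hc' hco' hY' t' ea' e
    · exact hmix j k hj hjm hj2 hk hkm hk2 e
    · exact hmix k j hk hkm hk2 hj hjm hj2 e.symm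
    · rcases eq_or_ne j 1 with rfl | hj1
      · exact (hE k (by omega) hkm hk2).2.1.ne e
      rcases eq_or_ne k 1 with rfl | hk1
      · exact (hE j (by omega) hjm hj2).2.1.ne e.symm
      obtain ⟨-, t, hs1⟩ := hE j (by omega) hjm hj2
      obtain ⟨-, t', hs2⟩ := hE k (by omega) hkm hk2
      have h := L.ev_inner (j := j) (k := k) (by omega) hjm hj2 (by omega) hkm hk2
      rw [if_neg hne, t.sum, hs1, hs2, hs] at h
      have h0 : ev u j (Y j) * ev u k (Y j) = 0 := by omega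
      exact ((mul_eq_zero.1 h0).resolve_left t.ne_zero.2 |> fun h' => t'.ne_zero.2 (e ▸ h'))
  -- the count
  set U := (Finset.Ioo 0 m).image Y with hU
  have hUsub : U ⊆ B \ supp B (om u m) := by
    intro χ hχ
    obtain ⟨j, hj, rfl⟩ := Finset.mem_image.1 hχ
    exact hYmem j (Finset.mem_Ioo.1 hj).1 (Finset.mem_Ioo.1 hj).2
  have hUcard : U.card = m - 1 := by
    rw [Finset.card_image_of_injOn fun j hj k hk e => hinj j k (Finset.mem_Ioo.1 hj).1
      (Finset.mem_Ioo.1 hj).2 (Finset.mem_Ioo.1 hk).1 (Finset.mem_Ioo.1 hk).2 e, Nat.card_Ioo]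
    omega
  obtain ⟨hUeq, -, ha4, ha1⟩ := L.card_rest hUsub hUcard.ge
  have hYa : ∀ j, 0 < j → j < m → a (Y j) = 2 ∨ a (Y j) = -2 := fun j h1 h2 => by
    have h := ha4 (Y j) (Finset.mem_image.2 ⟨j, Finset.mem_Ioo.2 ⟨h1, h2⟩, rfl⟩)
    exact mul_self_eq_mul_self_iff.1 (h.trans (by norm_num : (4 : ℤ) = 2 * 2))
  have hS : ∀ χ ∈ supp B (om u m), sa u a m χ = 1 ∨ sa u a m χ = -1 := fun χ hχ => by
    refine unit_cases ?_
    simp only [sa]
    linear_combination (a χ * a χ) * L.four.2 χ hχ + ha1 χ hχ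
  -- name the four
  obtain ⟨p, hp, q, hq, hpq⟩ : ∃ p ∈ supp B (om u m) \ {o}, ∃ q ∈ supp B (om u m) \ {o}, p ≠ q := by
    refine Finset.one_lt_card.1 ?_
    rw [Finset.card_sdiff_of_subset (Finset.singleton_subset_iff.2 L.mem_supp_o), L.four.1]
    simp
  simp only [Finset.mem_sdiff, Finset.mem_singleton] at hp hq
  obtain ⟨r, hr, hro, hrp, hrq, heq, hsum⟩ := L.four_split hp.1 hq.1 hp.2 hq.2 hpq
  have h0 := (hsum a).symm.trans L.orth_om_a
  rw [L.a_o] at h0
  obtain ⟨c1, c2, c3, hc1, hc2, hc3, n1, n2, n3, n12, n13, n23, A1, A2, A3, hSeq, hsum'⟩ :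
      ∃ c1 c2 c3, c1 ∈ supp B (om u m) ∧ c2 ∈ supp B (om u m) ∧ c3 ∈ supp B (om u m) ∧ c1 ≠ o ∧
        c2 ≠ o ∧ c3 ≠ o ∧ c1 ≠ c2 ∧ c1 ≠ c3 ∧ c2 ≠ c3 ∧ sa u a m c1 = 1 ∧ sa u a m c2 = -1 ∧
        sa u a m c3 = -1 ∧ (∀ χ, χ ∈ supp B (om u m) ↔ χ = o ∨ χ = c1 ∨ χ = c2 ∨ χ = c3) ∧
        ∀ f : ι → ℤ, ∑ χ ∈ B, om u m χ * f χ =
          f o + om u m c1 * f c1 + om u m c2 * f c2 + om u m c3 * f c3 := by
    rcases hS p hp.1 with e1 | e1 <;> rcases hS q hq.1 with e2 | e2 <;>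
      rcases hS r hr with e3 | e3 <;> simp only [sa] at e1 e2 e3 <;>
      first
      | (exfalso; omega)
      | exact ⟨p, q, r, hp.1, hq.1, hr, hp.2, hq.2, hro, hpq, hrp.symm, hrq.symm, e1, e2, e3,
          fun χ => by simp [heq], hsum⟩
      | exact ⟨q, p, r, hq.1, hp.1, hr, hq.2, hp.2, hro, hpq.symm, hrq.symm, hrp.symm, e2, e1, e3,
          fun χ => by simp only [heq, Finset.mem_insert, Finset.mem_singleton]; tauto,
          fun f => by rw [hsum f]; ring⟩
      | exact ⟨r, p, q, hr, hp.1, hq.1, hro, hp.2, hq.2, hrp, hrq, hpq, e3, e1, e2,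
          fun χ => by simp only [heq, Finset.mem_insert, Finset.mem_singleton]; tauto,
          fun f => by rw [hsum f]; ring⟩
  set d1 := om u m c1 with hd1
  have s1 := L.four.2 c1 hc1
  rw [← hd1] at s1
  have hB : ∀ χ, χ ∈ B ↔ χ = o ∨ χ = c1 ∨ χ = c2 ∨ χ = c3 ∨ ∃ j, 0 < j ∧ j < m ∧ χ = Y j := by
    intro χ
    constructor
    · intro hχ
      by_cases hs : χ ∈ supp B (om u m)
      · rcases (hSeq χ).1 hs with h | h | h | h <;> simp [h]
      · have : χ ∈ U := hUeq ▸ Finset.mem_sdiff.2 ⟨hχ, hs⟩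
        obtain ⟨j, hj, rfl⟩ := Finset.mem_image.1 this
        exact Or.inr (Or.inr (Or.inr (Or.inr
          ⟨j, (Finset.mem_Ioo.1 hj).1, (Finset.mem_Ioo.1 hj).2, rfl⟩)))
    · rintro (rfl | rfl | rfl | rfl | ⟨j, h1, h2, rfl⟩)
      · exact L.o_mem
      · exact (mem_supp.1 hc1).1
      · exact (mem_supp.1 hc2).1
      · exact (mem_supp.1 hc3).1
      · exact (Finset.mem_sdiff.1 (hYmem j h1 h2)).1
  have hYne : ∀ j, 0 < j → j < m → Y j ≠ o ∧ Y j ≠ c1 ∧ Y j ≠ c2 ∧ Y j ≠ c3 := fun j h1 h2 => by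
    have hn := (Finset.mem_sdiff.1 (hYmem j h1 h2)).2
    exact ⟨fun e => hn (e ▸ L.mem_supp_o), fun e => hn (e ▸ hc1), fun e => hn (e ▸ hc2),
      fun e => hn (e ▸ hc3)⟩
  -- the signs of the even family
  have hev : ∀ j, 0 < j → j < m → j % 2 = 0 → Two (B \ {o}) (dv u j) c1 (Y j) ∧
      dv u j c1 = -d1 ∧ dv u j (Y j) = d1 ∧ a (Y j) = 2 * d1 ∧ x (Y j) = d1 + x c1 := by
    intro j h1 h2 h3
    obtain ⟨hY, c, hc, hco, t, hdc, eaY, exY⟩ := hD j h1 h2 h3
    have hA : sa u a m c = 1 := by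
      rcases hS c hc with e | e
      · exact e
      · exfalso
        rw [e, add_neg_cancel] at eaY
        exact L.a_ne _ (Finset.mem_sdiff.1 hY).1 ((mul_eq_zero.1 eaY).resolve_left t.ne_zero.2)
    obtain rfl : c = c1 := by
      rcases (hSeq c).1 hc with h | h | h | h
      · exact absurd h hco
      · exact h
      · rw [h] at hA; omega
      · rw [h] at hA; omega
    rw [hA] at eaY
    rw [← hd1] at exY hdc
    have hxY := L.x_pos _ (Finset.mem_sdiff.1 hY).1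
    have hxc := L.x_pos _ (mem_supp.1 hc).1
    have he : dv u j (Y j) = d1 := by
      rcases unit_cases t.sq with e | e <;> rcases unit_cases s1 with e' | e' <;>
        rw [e] at exY ⊢ <;> rw [e'] at exY ⊢ <;> omega
    refine ⟨t, hdc, he, ?_, ?_⟩
    · rw [he] at eaY
      linear_combination d1 * eaY - a (Y j) * s1
    · rw [he] at exY
      linear_combination d1 * exY - (x (Y j) - x c) * s1
  -- the odd family: one value at `J` and one degree
  have hodd : ∀ j, 0 < j → j < m → j % 2 = 1 → a (Y j) = a (Y 1) ∧ x (Y j) = x (Y 1) ∧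
      (1 < j → Two B (ev u j) (Y 1) (Y j) ∧ ev u j (Y 1) = s ∧ ev u j (Y j) = -s) := by
    intro j h1 h2 h3
    rcases eq_or_ne j 1 with rfl | hne
    · exact ⟨rfl, rfl, fun h => absurd h (lt_irrefl 1)⟩
    obtain ⟨hY, t, es⟩ := hE j (by omega) h2 h3
    have ea := L.ev_a h2 (by omega) h3 t
    have ex : ev u j (Y 1) * x (Y 1) + ev u j (Y j) * x (Y j) = 0 := by
      rw [← t.sum]; simp only [ev]; exact L.orth_x j 1 h2.le (by omega) (by omega)
    have hp1 := L.x_pos _ t.hp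
    have hp2 := L.x_pos _ t.hq
    rw [es] at ea ex
    rcases unit_cases hs with e | e <;> rcases unit_cases t.sq with e' | e' <;>
      rw [e, e'] at ea ex <;>
      first
      | (exfalso; omega)
      | exact ⟨by omega, by omega, fun _ => ⟨t, es, by omega⟩⟩
  -- the sign of the odd family
  have ec : a c1 = d1 := by
    simp only [sa] at A1; rw [← hd1] at A1
    linear_combination d1 * A1 - a c1 * s1
  have hax : 2 * (1 + d1 * x c1) + ∑ j ∈ Finset.Ioo 0 m, a (Y j) * x (Y j) = 0 := by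
    have h := L.a_x
    rw [← Finset.sum_sdiff (Finset.filter_subset (fun χ => om u m χ ≠ 0) B),
      show B.filter (fun χ => om u m χ ≠ 0) = supp B (om u m) from rfl, ← hUeq, hU,
      Finset.sum_image fun j hj k hk e => hinj j k (Finset.mem_Ioo.1 hj).1
      (Finset.mem_Ioo.1 hj).2 (Finset.mem_Ioo.1 hk).1 (Finset.mem_Ioo.1 hk).2 e] at h
    have hfour : ∑ χ ∈ supp B (om u m), a χ * x χ = 2 * (1 + d1 * x c1) := by
      have e : ∑ χ ∈ supp B (om u m), a χ * x χ =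
          ∑ χ ∈ B, om u m χ * (sa u a m χ * x χ) := by
        rw [L.sum_four]
        refine Finset.sum_congr rfl fun χ hχ => ?_
        simp only [sa]
        linear_combination (-(a χ * x χ)) * L.four.2 χ hχ
      have hx0 := (hsum' x).symm.trans L.orth_om_x
      rw [L.x_o] at hx0
      rw [e, hsum', A1, A2, A3, show sa u a m o = 1 by simp [sa, L.om_o, L.a_o], L.x_o]
      linarith
    rw [hfour] at h
    linarith
  obtain ⟨r', hr', hsplit⟩ : ∃ r', m = 2 * r' ∧ ∀ F : ℕ → ℤ, ∑ j ∈ Finset.Ioo 0 m, F j =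
      ∑ i ∈ Finset.range r', F (2 * i + 1) + ∑ i ∈ Finset.range (r' - 1), F (2 * i + 2) := by
    obtain ⟨r', hr'⟩ : ∃ r', m = 2 * r' := ⟨m / 2, by omega⟩
    refine ⟨r', hr', fun F => ?_⟩
    have key : ∀ k : ℕ, ∑ j ∈ Finset.Ioo 0 (2 * (k + 1)), F j =
        ∑ i ∈ Finset.range (k + 1), F (2 * i + 1) + ∑ i ∈ Finset.range k, F (2 * i + 2) := by
      intro k
      induction k with
      | zero => rw [show Finset.Ioo 0 (2 * (0 + 1)) = {1} from rfl]; simp
      | succ k ih =>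
        rw [show Finset.Ioo 0 (2 * (k + 1 + 1)) =
          insert (2 * k + 3) (insert (2 * k + 2) (Finset.Ioo 0 (2 * (k + 1)))) by
            ext j; simp only [Finset.mem_Ioo, Finset.mem_insert]; omega,
          Finset.sum_insert (by simp only [Finset.mem_Ioo, Finset.mem_insert]; omega),
          Finset.sum_insert (by simp only [Finset.mem_Ioo]; omega), ih,
          Finset.sum_range_succ (fun i => F (2 * i + 1)) (k + 1),
          Finset.sum_range_succ (fun i => F (2 * i + 2)) k]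
        ring_nf
    obtain ⟨k, rfl⟩ : ∃ k, r' = k + 1 := ⟨r' - 1, by omega⟩
    rw [hr', key k, Nat.add_sub_cancel]
  have hxc := L.x_pos c1 (mem_supp.1 hc1).1
  have hx1 := L.x_pos (Y 1) (Finset.mem_sdiff.1 hY1).1
  rw [hsplit] at hax
  have hs1 : ∀ i ∈ Finset.range r', a (Y (2 * i + 1)) * x (Y (2 * i + 1)) = a (Y 1) * x (Y 1) :=
    fun i hi => by
      have := Finset.mem_range.1 hi
      rw [(hodd (2 * i + 1) (by omega) (by omega) (by omega)).1,
        (hodd (2 * i + 1) (by omega) (by omega) (by omega)).2.1]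
  have hs2 : ∀ i ∈ Finset.range (r' - 1), a (Y (2 * i + 2)) * x (Y (2 * i + 2)) =
      2 * d1 * (d1 + x c1) := fun i hi => by
      have := Finset.mem_range.1 hi
      rw [(hev (2 * i + 2) (by omega) (by omega) (by omega)).2.2.2.1,
        (hev (2 * i + 2) (by omega) (by omega) (by omega)).2.2.2.2]
  rw [Finset.sum_congr rfl hs1, Finset.sum_congr rfl hs2,
    Finset.sum_const, Finset.sum_const, Finset.card_range, Finset.card_range, nsmul_eq_mul,
    nsmul_eq_mul, Nat.cast_sub (by omega : 1 ≤ r')] at hax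
  have hax' : (r' : ℤ) * (a (Y 1) * x (Y 1) + 2 * (1 + d1 * x c1)) = 0 := by
    linear_combination hax - 2 * ((r' : ℤ) - 1) * s1
  have e0 : a (Y 1) * x (Y 1) + 2 * (1 + d1 * x c1) = 0 :=
    (mul_eq_zero.1 hax').resolve_left (by simp; omega)
  have hα : a (Y 1) = -2 * d1 ∧ x (Y 1) = d1 + x c1 := by
    rcases hYa 1 one_pos (by omega) with e | e <;> rcases unit_cases s1 with e' | e' <;>
      rw [e, e'] at e0 <;> rw [e, e'] <;> omega
  have hom : ∀ χ ∈ B, u χ 0 - u χ m = (if χ = o then 1 else 0) + (if χ = c1 then d1 else 0) +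
      (if χ = c2 then om u m c2 else 0) + (if χ = c3 then om u m c3 else 0) := by
    intro χ hχ
    show om u m χ = _
    by_cases hs : χ ∈ supp B (om u m)
    · rcases (hSeq χ).1 hs with h | h | h | h
      · simp [h, n1.symm, n2.symm, n3.symm, L.om_o]
      · simp [h, n1, n12, n13, ← hd1]
      · simp [h, n2, n12.symm, n23]
      · simp [h, n3, n13.symm, n23.symm]
    · have h0 : om u m χ = 0 := by by_contra h0; exact hs (mem_supp.2 ⟨hχ, h0⟩)
      have : χ ≠ o ∧ χ ≠ c1 ∧ χ ≠ c2 ∧ χ ≠ c3 := by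
        refine ⟨?_, ?_, ?_, ?_⟩ <;> intro e <;> exact hs ((hSeq χ).2 (by simp [e]))
      simp [h0, this.1, this.2.1, this.2.2.1, this.2.2.2]
  have heven : ∀ j, 0 < j → j < m → j % 2 = 0 → ∀ χ ∈ B, u χ j - u χ 0 =
      (if χ = o then -1 else 0) + (if χ = c1 then -d1 else 0) + (if χ = Y j then d1 else 0) := by
    intro j h1 h2 h3 χ hχ
    obtain ⟨t, e1, e2, -, -⟩ := hev j h1 h2 h3
    show dv u j χ = _
    obtain ⟨y1, y2, -, -⟩ := hYne j h1 h2
    by_cases ho : χ = o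
    · subst ho; simp [L.dv_o h1 h2.le, n1.symm, y1.symm]
    by_cases hc : χ = c1
    · subst hc; simp [e1, ho, y2.symm]
    by_cases hy : χ = Y j
    · subst hy; simp [e2, ho, hc]
    simp [ho, hc, hy, t.off χ (Finset.mem_sdiff.2 ⟨hχ, by simp [ho]⟩) hc hy]
  have hoddv : ∀ j, 0 < j → j < m → j % 2 = 1 → ∀ χ ∈ B, u χ j - u χ 1 =
      (if χ = Y j then -s else 0) - (if χ = Y 1 then -s else 0) := by
    intro j h1 h2 h3 χ hχ
    rcases eq_or_ne j 1 with rfl | hne
    · simp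
    obtain ⟨t, e1, e2⟩ := (hodd j h1 h2 h3).2.2 (by omega)
    show ev u j χ = _
    by_cases ha : χ = Y j
    · subst ha; simp [e2, t.ne.symm]
    by_cases hb : χ = Y 1
    · subst hb; simp [e1, t.ne]
    simp [ha, hb, t.off χ hχ hb ha]
  have e23 : a c2 = -om u m c2 ∧ a c3 = -om u m c3 := by
    constructor
    · have := A2; simp only [sa] at this
      linear_combination (om u m c2) * this - a c2 * L.four.2 c2 hc2
    · have := A3; simp only [sa] at this
      linear_combination (om u m c3) * this - a c3 * L.four.2 c3 hc3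
  have haX : ∀ j, 0 < j → j < m → a (Y j) = 2 * d1 * (-1) ^ j := fun j h1 h2 => by
    rcases Nat.mod_two_eq_zero_or_one j with h | h
    · rw [(hev j h1 h2 h).2.2.2.1, (Nat.even_iff.2 h).neg_one_pow, mul_one]
    · rw [(hodd j h1 h2 h).1, hα.1, (Nat.odd_iff.2 h).neg_one_pow]; ring
  by_cases hsd : -s = d1
  · exact ⟨c1, c2, c3, d1, om u m c2, om u m c3, Y, s1, L.four.2 c2 hc2, L.four.2 c3 hc3, n1, n2,
      n3, n12, n13, n23, hinj, hYne, hB, hom, heven, hsd ▸ hoddv, ec, e23.1, e23.2, haX⟩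
  rcases L.m_cases with h2 | h4 | h8
  · refine ⟨c1, c2, c3, d1, om u m c2, om u m c3, Y, s1, L.four.2 c2 hc2, L.four.2 c3 hc3, n1, n2,
      n3, n12, n13, n23, hinj, hYne, hB, hom, heven, fun j h1 h2' h3 χ hχ => ?_, ec, e23.1, e23.2,
      haX⟩
    obtain rfl : j = 1 := by omega
    simp
  · -- exchange the two odd members
    let sw : ℕ → ℕ := fun j => if j = 2 then 2 else 4 - j
    have hsw : ∀ j, 0 < j → j < m → 0 < sw j ∧ sw j < m ∧ sw j % 2 = j % 2 := fun j h1 h2 => by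
      simp only [sw]; split_ifs <;> omega
    refine ⟨c1, c2, c3, d1, om u m c2, om u m c3, fun j => Y (sw j), s1, L.four.2 c2 hc2,
      L.four.2 c3 hc3, n1, n2, n3, n12, n13, n23, fun j k a b c d e => ?_, fun j h1 h2 => ?_, ?_,
      hom, fun j h1 h2 h3 χ hχ => ?_, fun j h1 h2 h3 χ hχ => ?_, ec, e23.1, e23.2,
      fun j h1 h2 => ?_⟩
    · have := hinj _ _ (hsw j a b).1 (hsw j a b).2.1 (hsw k c d).1 (hsw k c d).2.1 e
      simp only [sw] at this; split_ifs at this <;> omega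
    · exact hYne _ (hsw j h1 h2).1 (hsw j h1 h2).2.1
    · intro χ
      rw [hB]
      have : (∃ j, 0 < j ∧ j < m ∧ χ = Y j) ↔ ∃ j, 0 < j ∧ j < m ∧ χ = Y (sw j) := by
        constructor
        · rintro ⟨j, h1, h2, rfl⟩
          refine ⟨sw j, (hsw j h1 h2).1, (hsw j h1 h2).2.1, ?_⟩
          congr 1; simp only [sw]; split_ifs <;> omega
        · rintro ⟨j, h1, h2, rfl⟩
          exact ⟨sw j, (hsw j h1 h2).1, (hsw j h1 h2).2.1, rfl⟩
      rw [this]
    · obtain rfl : j = 2 := by omega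
      simpa [sw] using heven 2 h1 h2 h3 χ hχ
    · have hss : s = d1 := by
        rcases unit_cases hs with e | e <;> rcases unit_cases s1 with e' | e' <;> omega
      rcases (show j = 1 ∨ j = 3 by omega) with rfl | rfl
      · simp
      · have := hoddv 3 (by norm_num) (by omega) rfl χ hχ
        simp only [sw, show (3 : ℕ) ≠ 2 by norm_num, show (1 : ℕ) ≠ 2 by norm_num, if_false]
        rw [this, hss]
        split_ifs <;> ring
    · rw [haX _ (hsw j h1 h2).1 (hsw j h1 h2).2.1]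
      have hp := (hsw j h1 h2).2.2
      rcases Nat.mod_two_eq_zero_or_one j with h | h
      · rw [(Nat.even_iff.2 h).neg_one_pow, (Nat.even_iff.2 (hp.trans h)).neg_one_pow]
      · rw [(Nat.odd_iff.2 h).neg_one_pow, (Nat.odd_iff.2 (hp.trans h)).neg_one_pow]
  · -- congruence on the degrees
    exfalso
    have key : ∀ χ ∈ B, ∃ z, x χ - a χ = 4 * ((r' : ℤ) * z +
        ∑ i ∈ Finset.range r', (u χ (2 * i + 1) - u χ 1)) := fun χ hχ => by
      refine ⟨u χ 1, ?_⟩
      rw [L.x_eq χ hχ, L.a_eq χ hχ, hsplit, hsplit, Finset.sum_sub_distrib, Finset.sum_const,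
        Finset.card_range, nsmul_eq_mul]
      simp only [show ∀ i, ((-1 : ℤ)) ^ (2 * i + 1) = -1 from
          fun i => (odd_two_mul_add_one i).neg_one_pow,
        show ∀ i, ((-1 : ℤ)) ^ (2 * i + 2) = 1 from fun i => (show Even (2 * i + 2) from
          ⟨i + 1, by ring⟩).neg_one_pow, neg_mul, one_mul, Finset.sum_neg_distrib]
      ring
    obtain ⟨z1, hz1⟩ := key (Y 1) (Finset.mem_sdiff.1 hY1).1
    obtain ⟨z2, hz2⟩ := key c1 (mem_supp.1 hc1).1
    have e1 : ∑ i ∈ Finset.range r', (u (Y 1) (2 * i + 1) - u (Y 1) 1) = ((r' : ℤ) - 1) * s := by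
      rw [Finset.sum_congr rfl (g := fun i => s - if i = 0 then s else 0) fun i hi => ?_]
      · rw [Finset.sum_sub_distrib, Finset.sum_const, Finset.card_range,
          Finset.sum_ite_eq' (Finset.range r') 0 fun _ => s,
          if_pos (Finset.mem_range.2 (by omega)), nsmul_eq_mul]
        ring
      · have := Finset.mem_range.1 hi
        rcases eq_or_ne i 0 with rfl | hi0
        · simp
        · rw [if_neg hi0, sub_zero]
          exact ((hodd (2 * i + 1) (by omega) (by omega) (by omega)).2.2 (by omega)).2.1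
    have e2 : ∑ i ∈ Finset.range r', (u c1 (2 * i + 1) - u c1 1) = 0 := by
      refine Finset.sum_eq_zero fun i hi => ?_
      have := Finset.mem_range.1 hi
      rw [hoddv (2 * i + 1) (by omega) (by omega) (by omega) c1 (mem_supp.1 hc1).1,
        if_neg (hYne (2 * i + 1) (by omega) (by omega)).2.1.symm,
        if_neg (hYne 1 one_pos (by omega)).2.1.symm, sub_self]
    rw [e1, hα.1, hα.2] at hz1
    rw [e2, ec] at hz2
    have hdvd : (r' : ℤ) ∣ d1 + s := ⟨z1 - z2 + s,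
      mul_left_cancel₀ (show (4 : ℤ) ≠ 0 by norm_num) (by linear_combination hz1 - hz2)⟩
    have hb : (d1 + s = 2 ∨ d1 + s = -2) := by
      rcases unit_cases hs with e | e <;> rcases unit_cases s1 with e' | e' <;> omega
    have h2 : (r' : ℤ) ∣ 2 := by
      rcases hb with e | e <;> rw [e] at hdvd
      · exact hdvd
      · exact Int.dvd_neg.1 hdvd
    have := Int.le_of_dvd two_pos h2
    omega

end LatData

end Cfsg.Agent.CharTheory.DihedralPrincipal
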