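import Mathlib
import Cfsg.Agent.Lib.CharTheory.DihedralPrincipal.Columns
import Cfsg.Agent.Lib.CharTheory.DihedralPrincipal.Table

/-!
# The principal 2-block of a group with dihedral Sylow 2-subgroups
-/

set_option autoImplicit false
set_option linter.style.haveILetI false
set_option linter.unusedSectionVars false

namespace Cfsg.Agent.CharTheory.DihedralPrincipal

open Cfsg.Agent.Blocks Cfsg.Agent.Characters
open scoped ComplexConjugate

universe u

variable {G : Type u} [Group G] [Fintype G] [Fintype (Cfsg.IrrCharacter G)]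
  {P : Sylow 2 G} {σ τ : G} {m : ℕ} {M : Ideal Cfsg.AlgInt} {ζ : ℂ}

theorem fold_range {α : Type*} [AddCommMonoid α] {m : ℕ} (hm : 0 < m) (F : ℕ → α) :
    ∑ j ∈ Finset.range (2 * m), F j =
      F 0 + F m + ∑ j ∈ Finset.Ioo 0 m, (F j + F (2 * m - j)) := by
  have e : Finset.range (2 * m) =
      insert 0 (insert m (Finset.Ioo 0 m ∪ Finset.Ioo m (2 * m))) := by
    ext j; simp only [Finset.mem_range, Finset.mem_insert, Finset.mem_union, Finset.mem_Ioo]; omega
  rw [e, Finset.sum_insert (by simp only [Finset.mem_insert, Finset.mem_union, Finset.mem_Ioo]; omega),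
    Finset.sum_insert (by simp only [Finset.mem_union, Finset.mem_Ioo]; omega),
    Finset.sum_union (by rw [Finset.disjoint_left]; simp only [Finset.mem_Ioo]; omega),
    Finset.sum_add_distrib, add_assoc]
  congr 3
  refine Finset.sum_nbij' (fun j => 2 * m - j) (fun j => 2 * m - j) ?_ ?_ ?_ ?_ ?_ <;>
    intro j hj <;> simp only [Finset.mem_coe, Finset.mem_Ioo] at hj ⊢
  · omega
  · omega
  · omega
  · omega
  · congr 1; omega

theorem sum_neg_one_Ioo {R : Type*} [Ring R] (hm : 0 < m) (he : m % 2 = 0) :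
    ∑ j ∈ Finset.Ioo 0 m, (-1 : R) ^ j = -1 := by
  have h : ∑ j ∈ Finset.range m, (-1 : R) ^ j = 0 := by
    rw [neg_one_geom_sum, if_pos (Nat.even_iff.2 he)]
  rw [show Finset.range m = insert 0 (Finset.Ioo 0 m) by
      ext j; simp only [Finset.mem_range, Finset.mem_insert, Finset.mem_Ioo]; omega,
    Finset.sum_insert (by simp), pow_zero, add_comm] at h
  exact eq_neg_of_add_eq_zero_left h

section
variable (hζ : IsPrimitiveRoot ζ (2 * m))
include hζ

theorem root_reflect {j : ℕ} (hj : j ≤ 2 * m) (l : ℕ) :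
    ζ ^ ((2 * m - j) * l) = (ζ ^ (j * l))⁻¹ := by
  refine eq_inv_of_mul_eq_one_left ?_
  rw [← pow_add, ← add_mul, Nat.sub_add_cancel hj, pow_mul, hζ.pow_eq_one, one_pow]

theorem root_half : ζ ^ m = -1 ∨ m = 0 := by
  rcases Nat.eq_zero_or_pos m with h | h
  · exact Or.inr h
  · exact Or.inl ((hζ.pow (by omega) (mul_comm 2 m)).eq_neg_one_of_two_right)

theorem sum_gv (hm : 0 < m) (he : m % 2 = 0) {l : ℕ} (hl : 0 < l) (hl2 : l < 2 * m) (hlm : l ≠ m) :
    ∑ j ∈ Finset.Ioo 0 m, gv ζ j l = -1 - (-1) ^ l ∧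
      ∑ j ∈ Finset.Ioo 0 m, (-1 : ℂ) ^ j * gv ζ j l = -1 - (-1) ^ l := by
  have hh : ζ ^ m = -1 := (root_half hζ).resolve_right hm.ne'
  have hne : ¬ (2 * m : ℤ) ∣ (l : ℤ) := fun h => by
    have := Int.natCast_dvd_natCast.1 (show ((2 * m : ℕ) : ℤ) ∣ (l : ℤ) by exact_mod_cast h)
    exact absurd (Nat.le_of_dvd hl this) (by omega)
  have hne' : ¬ (2 * m : ℤ) ∣ ((l + m : ℕ) : ℤ) := fun h => by
    obtain ⟨c, hc⟩ := Int.natCast_dvd_natCast.1
      (show ((2 * m : ℕ) : ℤ) ∣ ((l + m : ℕ) : ℤ) by exact_mod_cast h)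
    rcases c with _ | _ | c
    · omega
    · omega
    · rw [mul_add, mul_add] at hc; omega
  have hmid : ζ ^ (m * l) = (-1) ^ l := by rw [pow_mul, hh]
  have hme : (-1 : ℂ) ^ m = 1 := (Nat.even_iff.2 he).neg_one_pow
  constructor
  · have h := sum_pow_root hζ hm (l : ℤ)
    rw [if_neg hne, fold_range hm] at h
    simp only [zpow_natCast, ← pow_mul] at h
    rw [mul_zero, pow_zero, mul_comm l m, hmid] at h
    rw [Finset.sum_congr rfl (g := fun j => gv ζ j l) fun j hj => by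
      rw [mul_comm l (2 * m - j), root_reflect hζ (by linarith [(Finset.mem_Ioo.1 hj).2]), mul_comm l j]
      rfl] at h
    linear_combination h
  · have h := sum_pow_root hζ hm ((l + m : ℕ) : ℤ)
    rw [if_neg hne', fold_range hm] at h
    have e : ∀ j, (ζ ^ ((l + m : ℕ) : ℤ)) ^ j = (-1) ^ j * ζ ^ (j * l) := fun j => by
      rw [zpow_natCast, ← pow_mul, add_mul, pow_add, pow_mul ζ m, hh, mul_comm l j]; ring
    simp only [e] at h
    rw [zero_mul, pow_zero, pow_zero, one_mul, hme, hmid, one_mul] at h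
    rw [Finset.sum_congr rfl (g := fun j => (-1 : ℂ) ^ j * gv ζ j l) fun j hj => by
      have hj' := (Finset.mem_Ioo.1 hj).2
      rw [root_reflect hζ (by omega), show (-1 : ℂ) ^ (2 * m - j) = (-1) ^ j by
        refine neg_one_pow_congr ?_
        simp only [Nat.even_iff]; omega]
      simp only [gv]; ring] at h
    linear_combination h

theorem gv_sub_left {l : ℕ} (hl : l ≤ 2 * m) (j : ℕ) : gv ζ j (2 * m - l) = gv ζ j l := by
  have := gv_reflect hζ hl j
  simp only [gv, mul_comm j] at this ⊢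
  exact this

variable (h : DihSylow P σ τ m)
include h

/-- Differences of multiplicities against the columns. -/
theorem delta_pair (hM : Cfsg.IsPModular 2 M) {u : Cfsg.IrrCharacter G → ℕ → ℤ}
    (hu : ∀ χ : Cfsg.IrrCharacter G, ∀ j ≤ 2 * m, 4 * (m : ℂ) * (u χ j : ℂ) =
      ∑ l ∈ Finset.range (2 * m), gv ζ j l * (χ : G → ℂ) (σ ^ l))
    {j k : ℕ} (hj : j ≤ m) (hk : k ≤ m) (hjk : j % 2 = k % 2) :
    (∀ l < 2 * m, ∑ χ ∈ prin (G := G) M, ((u χ j : ℂ) - u χ k) * (χ : G → ℂ) (σ ^ l) =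
      gv ζ j l - gv ζ k l) ∧
    ∀ g : G, ¬ 2 ∣ orderOf g →
      ∑ χ ∈ prin (G := G) M, ((u χ j : ℂ) - u χ k) * (χ : G → ℂ) g = 0 := by
  classical
  have hm := h.pos
  have hz : ∀ l, (l = 0 ∨ l = m) → gv ζ j l - gv ζ k l = 0 := by
    rintro l (rfl | rfl)
    · rw [gv_zero_right hζ, gv_zero_right hζ, sub_self]
    · rw [gv_half hζ hm, gv_half hζ hm,
        neg_one_pow_congr (show Even j ↔ Even k by simp only [Nat.even_iff, hjk]), sub_self]
  have key : ∀ g : G, 4 * (m : ℂ) * ∑ χ ∈ prin (G := G) M, ((u χ j : ℂ) - u χ k) * (χ : G → ℂ) g =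
      ∑ l ∈ Finset.range (2 * m), (gv ζ j l - gv ζ k l) *
        (if InSection (σ ^ l) g then 2 * (m : ℂ) else 0) := by
    intro g
    rw [Finset.mul_sum]
    refine (Finset.sum_congr rfl (g := fun χ : Cfsg.IrrCharacter G => ∑ l ∈ Finset.range (2 * m),
      (gv ζ j l - gv ζ k l) * ((χ : G → ℂ) (σ ^ l) * (χ : G → ℂ) g)) fun χ _ => ?_).trans ?_
    swap
    rw [Finset.sum_comm]
    · refine Finset.sum_congr rfl fun l hl => ?_
      have hl' := Finset.mem_range.1 hl
      rw [← Finset.mul_sum]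
      by_cases h0 : l = 0 ∨ l = m
      · rw [hz l h0, zero_mul, zero_mul]
      rw [not_or] at h0
      rw [h.column hM (pow_mem (Subgroup.mem_zpowers σ) l)
        (fun e => h0.1 (h.pow_inj hl' (by omega) (e.trans (pow_zero σ).symm)))]
      rw [DihSylow.wgt, if_neg fun e => h0.2 (h.pow_inj hl' (by omega) e)]
      push_cast
      rfl
    · rw [← mul_assoc, mul_sub, hu χ j (by omega), hu χ k (by omega), ← Finset.sum_sub_distrib,
        Finset.sum_mul]
      exact Finset.sum_congr rfl fun l _ => by ring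
  have hm4 : (4 : ℂ) * (m : ℂ) ≠ 0 :=
    mul_ne_zero (by norm_num) (Nat.cast_ne_zero.2 hm.ne')
  refine ⟨fun l hl => mul_left_cancel₀ hm4 ?_, fun g hg => mul_left_cancel₀ hm4 ?_⟩
  · rw [key]
    have hsec : ∀ i < 2 * m, i ≠ 0 → (InSection (σ ^ i) (σ ^ l) ↔ l = i ∨ l + i = 2 * m) := by
      intro i hi hi0
      rw [h.inSection_rot (pow_mem (Subgroup.mem_zpowers σ) i)
        (fun e => hi0 (h.pow_inj hi (by omega) (e.trans (pow_zero σ).symm)))
        (pow_mem (Subgroup.mem_zpowers σ) l)]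
      have hinv : (σ ^ i)⁻¹ = σ ^ (2 * m - i) := by
        refine inv_eq_of_mul_eq_one_right ?_
        rw [← pow_add, Nat.add_sub_cancel' hi.le, ← h.order_σ, pow_orderOf_eq_one]
      rw [hinv]
      refine or_congr ⟨fun e => h.pow_inj hl hi e, fun e => by rw [e]⟩
        ⟨fun e => ?_, fun e => by rw [show 2 * m - i = l by omega]⟩
      have := h.pow_inj hl (by omega) e
      omega
    by_cases hl0 : l = 0 ∨ l = m
    · rw [hz l hl0, mul_zero]
      refine Finset.sum_eq_zero fun i hi => ?_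
      by_cases hi0 : i = 0 ∨ i = m
      · rw [hz i hi0, zero_mul]
      rw [not_or] at hi0
      rw [if_neg (fun e => ?_), mul_zero]
      have := Finset.mem_range.1 hi
      rcases (hsec i this hi0.1).1 e with e' | e' <;> omega
    rw [not_or] at hl0
    rw [← Finset.sum_subset (s₁ := ({l, 2 * m - l} : Finset ℕ))]
    · rw [Finset.sum_pair (by omega), if_pos ((hsec l hl hl0.1).2 (Or.inl rfl)),
        if_pos ((hsec (2 * m - l) (by omega) (by omega)).2 (Or.inr (by omega))),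
        gv_sub_left hζ (by omega), gv_sub_left hζ (by omega)]
      ring
    · intro i hi
      simp only [Finset.mem_insert, Finset.mem_singleton] at hi
      rw [Finset.mem_range]; omega
    · intro i hi hni
      simp only [Finset.mem_insert, Finset.mem_singleton, not_or] at hni
      by_cases hi0 : i = 0 ∨ i = m
      · rw [hz i hi0, zero_mul]
      rw [not_or] at hi0
      have := Finset.mem_range.1 hi
      rw [if_neg (fun e => ?_), mul_zero]
      rcases (hsec i this hi0.1).1 e with e' | e' <;> omega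
  · rw [key, mul_zero]
    refine Finset.sum_eq_zero fun i hi => ?_
    by_cases hi0 : i = 0 ∨ i = m
    · rw [hz i hi0, zero_mul]
    rw [not_or] at hi0
    rw [if_neg (fun e => ?_), mul_zero]
    obtain ⟨z, hz', hzg⟩ := e
    obtain rfl := ppart_unique Nat.prime_two hzg (isPPart_one Nat.prime_two hg)
    obtain ⟨c, hc⟩ := isConj_iff.1 hz'
    exact hi0.1 (h.pow_inj (Finset.mem_range.1 hi) (by omega)
      ((conj_eq_one_iff.1 hc).trans (pow_zero σ).symm))

end

/-- The principal block with dihedral Sylow `2`-subgroups. -/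
structure Principal (σ : G) (m : ℕ) (M : Ideal Cfsg.AlgInt) (ζ : ℂ)
    (c1 c2 c3 : Cfsg.IrrCharacter G) (d1 d2 d3 : ℤ) (X : ℕ → Cfsg.IrrCharacter G) : Prop where
  sq1 : d1 * d1 = 1
  sq2 : d2 * d2 = 1
  sq3 : d3 * d3 = 1
  ne1 : c1 ≠ trivIrr G
  ne2 : c2 ≠ trivIrr G
  ne3 : c3 ≠ trivIrr G
  ne12 : c1 ≠ c2
  ne13 : c1 ≠ c3
  ne23 : c2 ≠ c3
  X_inj : ∀ j k, 0 < j → j < m → 0 < k → k < m → X j = X k → j = k
  X_ne : ∀ j, 0 < j → j < m → X j ≠ trivIrr G ∧ X j ≠ c1 ∧ X j ≠ c2 ∧ X j ≠ c3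
  mem : ∀ χ, χ ∈ Cfsg.principalBlock M G ↔
    χ = trivIrr G ∨ χ = c1 ∨ χ = c2 ∨ χ = c3 ∨ ∃ j, 0 < j ∧ j < m ∧ χ = X j
  val1 : ∀ l, 0 < l → l < 2 * m → (c1 : G → ℂ) (σ ^ l) = d1
  val2 : ∀ l, 0 < l → l < 2 * m → (c2 : G → ℂ) (σ ^ l) = d2 * (-1) ^ (l + 1)
  val3 : ∀ l, 0 < l → l < 2 * m → (c3 : G → ℂ) (σ ^ l) = d3 * (-1) ^ (l + 1)
  valX : ∀ j, 0 < j → j < m → ∀ l, 0 < l → l < 2 * m → (X j : G → ℂ) (σ ^ l) = d1 * gv ζ j l
  reg : ∀ ρ : G, ¬ 2 ∣ orderOf ρ →
    1 + d1 * (c1 : G → ℂ) ρ + d2 * (c2 : G → ℂ) ρ + d3 * (c3 : G → ℂ) ρ = 0 ∧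
      ∀ j, 0 < j → j < m → d1 * (X j : G → ℂ) ρ = 1 + d1 * (c1 : G → ℂ) ρ

theorem exists_principal (h : DihSylow P σ τ m) (hM : Cfsg.IsPModular 2 M)
    (hζ : IsPrimitiveRoot ζ (2 * m)) :
    ∃ c1 c2 c3 d1 d2 d3, ∃ X, Principal (G := G) σ m M ζ c1 c2 c3 d1 d2 d3 X := by
  classical
  choose u hinv hu using fun χ : Cfsg.IrrCharacter G => DihSylow.exists_mult hζ h χ
  have hm := h.pos
  have hme : m % 2 = 0 := Nat.mod_eq_zero_of_dvd h.even
  have hm4 : (4 : ℂ) * (m : ℂ) ≠ 0 :=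
    mul_ne_zero (by norm_num) (Nat.cast_ne_zero.2 hm.ne')
  have hrefl : ∀ χ, ∀ j ∈ Finset.Ioo 0 m, u χ (2 * m - j) = u χ j := fun χ j hj => by
    have hj' := (Finset.mem_Ioo.1 hj).2
    have e1 := hu χ j (by omega)
    have e2 := hu χ (2 * m - j) (by omega)
    rw [Finset.sum_congr rfl fun l _ => by rw [gv_reflect hζ (by omega : j ≤ 2 * m)]] at e2
    exact_mod_cast mul_left_cancel₀ hm4 (e2.trans e1.symm)
  have hval : ∀ (χ : Cfsg.IrrCharacter G) (l : ℕ), (χ : G → ℂ) (σ ^ l) =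
      (u χ 0 : ℂ) + (-1) ^ l * (u χ m : ℂ) + ∑ j ∈ Finset.Ioo 0 m, (u χ j : ℂ) * gv ζ j l := by
    intro χ l
    rw [hinv χ l, fold_range hm]
    congr 1
    · rw [zero_mul, pow_zero, mul_one, pow_mul, (root_half hζ).resolve_right hm.ne', mul_comm ((-1) ^ l)]
    · refine Finset.sum_congr rfl fun j hj => ?_
      rw [hrefl χ j hj, root_reflect hζ (by have := (Finset.mem_Ioo.1 hj).2; omega), gv]
      ring
  set a : Cfsg.IrrCharacter G → ℤ := fun χ =>
    u χ 0 + u χ m + 2 * ∑ j ∈ Finset.Ioo 0 m, (-1) ^ j * u χ j with ha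
  set x : Cfsg.IrrCharacter G → ℤ := fun χ =>
    u χ 0 + u χ m + 2 * ∑ j ∈ Finset.Ioo 0 m, u χ j with hx
  have hmpow : (-1 : ℂ) ^ m = 1 := (Nat.even_iff.2 hme).neg_one_pow
  have hav : ∀ χ : Cfsg.IrrCharacter G, (χ : G → ℂ) (σ ^ m) = (a χ : ℂ) := fun χ => by
    rw [hval, hmpow, one_mul]
    simp only [ha, Int.cast_add, Int.cast_mul, Int.cast_sum, Int.cast_pow, Int.cast_neg,
      Int.cast_one, Int.cast_ofNat, Finset.mul_sum]
    congr 1
    exact Finset.sum_congr rfl fun j _ => by rw [gv_half hζ hm]; ring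
  have hxv : ∀ χ : Cfsg.IrrCharacter G, (χ : G → ℂ) 1 = (x χ : ℂ) := fun χ => by
    rw [← pow_zero σ, hval, pow_zero, one_mul]
    simp only [hx, Int.cast_add, Int.cast_mul, Int.cast_sum, Int.cast_ofNat, Finset.mul_sum]
    congr 1
    exact Finset.sum_congr rfl fun j _ => by rw [gv_zero_right hζ]; ring
  have hJ1 : σ ^ m ≠ 1 := h.J_ne_one
  have hJmem : σ ^ m ∈ Subgroup.zpowers σ := pow_mem (Subgroup.mem_zpowers σ) m
  have hregJ : ∀ g : G, ¬ 2 ∣ orderOf g → ¬ InSection (σ ^ m) g := by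
    rintro g hg ⟨z, hz', hzg⟩
    obtain rfl := ppart_unique Nat.prime_two hzg (isPPart_one Nat.prime_two hg)
    obtain ⟨c, hc⟩ := isConj_iff.1 hz'
    exact hJ1 (conj_eq_one_iff.1 hc)
  have hwJ : DihSylow.wgt σ m (σ ^ m) = 4 * m := by rw [DihSylow.wgt, if_pos rfl]
  have hareg : ∀ g : G, ¬ 2 ∣ orderOf g →
      ∑ χ ∈ prin (G := G) M, (a χ : ℂ) * (χ : G → ℂ) g = 0 := fun g hg => by
    simp only [← hav]
    rw [h.column hM hJmem hJ1, if_neg (hregJ g hg)]
  have h1reg : ¬ 2 ∣ orderOf (1 : G) := by simp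
  have hd := fun {j k : ℕ} (hj : j ≤ m) (hk : k ≤ m) (hjk : j % 2 = k % 2) =>
    delta_pair hζ h hM hu hj hk hjk
  have L : LatData (prin (G := G) M) (trivIrr G) u a x m := by
    refine ⟨mem_prin.2 (trivIrr_mem_principal hM), ?_, fun j hj => ?_, ?_, ?_, fun χ _ => ?_,
      fun j k p q hj hk hp hq hjk hpq => ?_, fun j k hj hk hjk => ?_, fun j k hj hk hjk => ?_,
      ?_, ?_, fun χ hχ => ?_, fun χ _ => rfl, fun χ _ => rfl⟩
    · obtain ⟨e, rfl⟩ := h.m_pow
      rcases e with _ | e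
      · simp at hme
      · exact ⟨e, rfl⟩
    · have e := hu (trivIrr G) j (by omega)
      have hs : ∑ l ∈ Finset.range (2 * m), gv ζ j l * (trivIrr G : G → ℂ) (σ ^ l) =
          4 * (m : ℂ) * (if j = 0 then 1 else 0) := by
        have e' := sum_gv_mul hζ hm hj (Nat.zero_le m)
        have h0 : ∀ l, gv ζ 0 l = 2 := fun l => by
          simp only [gv, zero_mul, pow_zero, inv_one]; norm_num
        simp only [h0, ← Finset.sum_mul] at e'
        simp only [trivIrr, mul_one]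
        by_cases hj0 : j = 0
        · subst hj0; simp at e' ⊢; linear_combination e' / 2
        · rw [if_neg hj0] at e' ⊢; linear_combination e' / 2
      rw [hs] at e
      have := mul_left_cancel₀ hm4 e
      split_ifs at this ⊢ <;> exact_mod_cast this
    · have := hav (trivIrr G)
      simp only [trivIrr] at this
      exact_mod_cast this.symm
    · have := hxv (trivIrr G)
      simp only [trivIrr] at this
      exact_mod_cast this.symm
    · have e := hxv χ
      rw [← charDegree_cast χ] at e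
      have e' : x χ = (Cfsg.charDegree (χ : G → ℂ) : ℤ) := by exact_mod_cast e.symm
      rw [e']
      exact_mod_cast charDegree_pos χ
    · have e : 4 * (m : ℂ) * ∑ χ ∈ prin (G := G) M, ((u χ j : ℂ) - u χ k) * ((u χ p : ℂ) - u χ q) =
          ∑ l ∈ Finset.range (2 * m), (gv ζ p l - gv ζ q l) * (gv ζ j l - gv ζ k l) := by
        rw [Finset.mul_sum, Finset.sum_congr rfl (g := fun χ => ∑ l ∈ Finset.range (2 * m),
          (gv ζ p l - gv ζ q l) * (((u χ j : ℂ) - u χ k) * (χ : G → ℂ) (σ ^ l))) fun χ _ => ?_,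
          Finset.sum_comm]
        · refine Finset.sum_congr rfl fun l hl => ?_
          rw [← Finset.mul_sum, (hd hj hk hjk).1 l (Finset.mem_range.1 hl)]
        · rw [mul_left_comm, mul_sub (4 * (m : ℂ)), hu χ p (by omega), hu χ q (by omega),
            ← Finset.sum_sub_distrib, Finset.mul_sum]
          exact Finset.sum_congr rfl fun l _ => by ring
      have hg : ∀ j p, j ≤ m → p ≤ m →
          ∑ l ∈ Finset.range (2 * m), gv ζ j l * gv ζ p l = 4 * (m : ℂ) * (gw m j p : ℂ) := by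
        intro j p hj hp
        rw [sum_gv_mul hζ hm hj hp, gw]
        split_ifs <;> push_cast <;> ring
      simp only [sub_mul, mul_sub, Finset.sum_sub_distrib, hg _ _ hp hj, hg _ _ hp hk, hg _ _ hq hj,
        hg _ _ hq hk] at e
      have hsymm : ∀ j p, gw m j p = gw m p j := fun j p => by
        by_cases e : j = p
        · rw [e]
        · rw [gw, gw, if_neg e, if_neg (Ne.symm e)]
      rw [hsymm j p, hsymm j q, hsymm k p, hsymm k q]
      refine Int.cast_injective (α := ℂ) (mul_left_cancel₀ hm4 ?_)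
      push_cast
      simp only [sub_mul, mul_sub, Finset.sum_sub_distrib]
      linear_combination e
    · have e := (hd hj hk hjk).1 m (by omega)
      rw [gv_half hζ hm, gv_half hζ hm,
        neg_one_pow_congr (show Even j ↔ Even k by simp only [Nat.even_iff, hjk]), sub_self] at e
      simp only [hav] at e
      exact_mod_cast e
    · have e := (hd hj hk hjk).2 1 h1reg
      simp only [hxv] at e
      exact_mod_cast e
    · have e := hareg 1 h1reg
      simp only [hxv] at e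
      exact_mod_cast e
    · have e := h.column hM hJmem hJ1 (σ ^ m)
      rw [if_pos ((h.inSection_rot hJmem hJ1 hJmem).2 (Or.inl rfl)), hwJ] at e
      simp only [hav] at e
      exact_mod_cast e
    · intro h0
      exact h.value_J_ne_zero hM hχ (by rw [hav, h0, Int.cast_zero])
  obtain ⟨c1, c2, c3, d1, d2, d3, X, T⟩ := L.exists_table
  have hXB : ∀ j, 0 < j → j < m → X j ∈ prin (G := G) M := fun j h1 h2 =>
    (T.mem _).2 (Or.inr (Or.inr (Or.inr (Or.inr ⟨j, h1, h2, rfl⟩))))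
  have hcB : c1 ∈ prin (G := G) M ∧ c2 ∈ prin (G := G) M ∧ c3 ∈ prin (G := G) M :=
    ⟨(T.mem _).2 (Or.inr (Or.inl rfl)), (T.mem _).2 (Or.inr (Or.inr (Or.inl rfl))),
      (T.mem _).2 (Or.inr (Or.inr (Or.inr (Or.inl rfl))))⟩
  have hoB : trivIrr G ∈ prin (G := G) M := mem_prin.2 (trivIrr_mem_principal hM)
  -- the values on the rotations
  have hform : ∀ χ ∈ prin (G := G) M, ∀ l, 0 < l → l < 2 * m → l ≠ m → (χ : G → ℂ) (σ ^ l) =
      -((-1) ^ l) * ((u χ 0 - u χ m : ℤ) : ℂ) +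
      (d1 : ℂ) * ∑ j ∈ Finset.Ioo 0 m, (if χ = X j then gv ζ j l else 0) +
      (((if χ = trivIrr G then -1 else 0) + (if χ = c1 then -d1 else 0) : ℤ) : ℂ) *
        (-1 - (-1) ^ l) := by
    intro χ hχ l hl hl2 hlm
    obtain ⟨g1, g2⟩ := sum_gv hζ hm hme hl hl2 hlm
    set w : ℤ := (if χ = trivIrr G then -1 else 0) + (if χ = c1 then -d1 else 0) with hw
    set v : ℤ := if χ = X 1 then d1 else 0 with hv
    have e : ∀ j ∈ Finset.Ioo 0 m, (u χ j : ℂ) * gv ζ j l =
        (d1 : ℂ) * (if χ = X j then gv ζ j l else 0) +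
          (((u χ 0 : ℂ) + w + ((u χ 1 : ℂ) - v)) / 2) * gv ζ j l +
          (((u χ 0 : ℂ) + w - ((u χ 1 : ℂ) - v)) / 2) * ((-1) ^ j * gv ζ j l) := by
      intro j hj
      obtain ⟨h1, h2⟩ := Finset.mem_Ioo.1 hj
      rcases Nat.mod_two_eq_zero_or_one j with hp | hp
      · have := T.even_eq j h1 h2 hp χ hχ
        rw [(Nat.even_iff.2 hp).neg_one_pow,
          show (u χ j : ℂ) = (u χ 0 : ℂ) + w + (if χ = X j then (d1 : ℂ) else 0) by
            rw [show u χ j = u χ 0 + (w + (if χ = X j then d1 else 0)) by omega]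
            split_ifs <;> push_cast <;> ring]
        split_ifs <;> ring
      · have := T.odd_eq j h1 h2 hp χ hχ
        rw [(Nat.odd_iff.2 hp).neg_one_pow,
          show (u χ j : ℂ) = (u χ 1 : ℂ) - v + (if χ = X j then (d1 : ℂ) else 0) by
            rw [show u χ j = u χ 1 + ((if χ = X j then d1 else 0) - v) by omega]
            split_ifs <;> push_cast <;> ring]
        split_ifs <;> ring
    rw [hval, Finset.sum_congr rfl e, Finset.sum_add_distrib, Finset.sum_add_distrib,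
      ← Finset.mul_sum, ← Finset.mul_sum, ← Finset.mul_sum, g1, g2]
    push_cast
    ring
  have hoc : trivIrr G ≠ c1 := fun e => T.ne1 e.symm
  have hXc : ∀ c, (∀ j, 0 < j → j < m → X j ≠ c) → ∀ l,
      ∑ j ∈ Finset.Ioo 0 m, (if c = X j then gv ζ j l else 0) = (0 : ℂ) := fun c hc l =>
    Finset.sum_eq_zero fun j hj =>
      if_neg (hc j (Finset.mem_Ioo.1 hj).1 (Finset.mem_Ioo.1 hj).2).symm
  have hom1 : u c1 0 - u c1 m = d1 := by
    simpa [T.ne1, T.ne12, T.ne13] using T.om_eq c1 hcB.1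
  have hom2 : u c2 0 - u c2 m = d2 := by
    simpa [T.ne2, T.ne12.symm, T.ne23] using T.om_eq c2 hcB.2.1
  have hom3 : u c3 0 - u c3 m = d3 := by
    simpa [T.ne3, T.ne13.symm, T.ne23.symm] using T.om_eq c3 hcB.2.2
  refine ⟨c1, c2, c3, d1, d2, d3, X, T.sq1, T.sq2, T.sq3, T.ne1, T.ne2, T.ne3, T.ne12, T.ne13,
    T.ne23, T.X_inj, T.X_ne, fun χ => mem_prin.symm.trans (T.mem χ), ?_, ?_, ?_, ?_, ?_⟩
  · intro l hl hl2
    by_cases hlm : l = m
    · rw [hlm, hav, T.a1]
    rw [hform c1 hcB.1 l hl hl2 hlm, hXc c1 (fun j a b => (T.X_ne j a b).2.1) l, hom1,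
      if_neg T.ne1, if_pos rfl]
    push_cast; ring
  · intro l hl hl2
    by_cases hlm : l = m
    · rw [hlm, hav, T.a2, pow_succ, hmpow]; push_cast; ring
    rw [hform c2 hcB.2.1 l hl hl2 hlm, hXc c2 (fun j a b => (T.X_ne j a b).2.2.1) l, hom2,
      if_neg T.ne2, if_neg T.ne12.symm, pow_succ]
    push_cast; ring
  · intro l hl hl2
    by_cases hlm : l = m
    · rw [hlm, hav, T.a3, pow_succ, hmpow]; push_cast; ring
    rw [hform c3 hcB.2.2 l hl hl2 hlm, hXc c3 (fun j a b => (T.X_ne j a b).2.2.2) l, hom3,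
      if_neg T.ne3, if_neg T.ne13.symm, pow_succ]
    push_cast; ring
  · intro j h1 h2 l hl hl2
    by_cases hlm : l = m
    · rw [hlm, hav, T.aX j h1 h2, gv_half hζ hm]; push_cast; ring
    obtain ⟨n0, n1, n2, n3⟩ := T.X_ne j h1 h2
    have hom0 : u (X j) 0 - u (X j) m = 0 := by
      simpa [n0, n1, n2, n3] using T.om_eq (X j) (hXB j h1 h2)
    rw [hform _ (hXB j h1 h2) l hl hl2 hlm, hom0, if_neg n0, if_neg n1,
      Finset.sum_eq_single j (fun i hi hne => if_neg fun e => hne (T.X_inj i j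
        (Finset.mem_Ioo.1 hi).1 (Finset.mem_Ioo.1 hi).2 h1 h2 e.symm))
        (fun hn => absurd (Finset.mem_Ioo.2 ⟨h1, h2⟩) hn), if_pos rfl]
    push_cast; ring
  · intro ρ hρ
    have hpick : ∀ (c : Cfsg.IrrCharacter G) (d : ℤ), c ∈ prin (G := G) M →
        ∑ χ ∈ prin (G := G) M, ((if χ = c then d else 0 : ℤ) : ℂ) * (χ : G → ℂ) ρ =
          (d : ℂ) * (c : G → ℂ) ρ := by
      intro c d hc
      rw [Finset.sum_eq_single c (fun χ _ hne => by simp [hne]) (fun hn => absurd hc hn)]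
      simp
    have ho1 : (trivIrr G : G → ℂ) ρ = 1 := rfl
    have eΩ : 1 + (d1 : ℂ) * (c1 : G → ℂ) ρ + d2 * (c2 : G → ℂ) ρ + d3 * (c3 : G → ℂ) ρ = 0 := by
      have e := (hd (Nat.zero_le m) le_rfl (by rw [hme])).2 ρ hρ
      rw [Finset.sum_congr rfl (g := fun χ : Cfsg.IrrCharacter G =>
        ((if χ = trivIrr G then 1 else 0 : ℤ) : ℂ) * (χ : G → ℂ) ρ +
        ((if χ = c1 then d1 else 0 : ℤ) : ℂ) * (χ : G → ℂ) ρ +
        ((if χ = c2 then d2 else 0 : ℤ) : ℂ) * (χ : G → ℂ) ρ +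
        ((if χ = c3 then d3 else 0 : ℤ) : ℂ) * (χ : G → ℂ) ρ) fun χ hχ => by
          rw [← Int.cast_sub, T.om_eq χ hχ]; push_cast; ring] at e
      simp only [Finset.sum_add_distrib] at e
      rw [hpick _ _ hoB, hpick _ _ hcB.1, hpick _ _ hcB.2.1, hpick _ _ hcB.2.2, ho1] at e
      simpa using e
    refine ⟨eΩ, ?_⟩
    have eev : ∀ j, 0 < j → j < m → j % 2 = 0 →
        (d1 : ℂ) * (X j : G → ℂ) ρ = 1 + d1 * (c1 : G → ℂ) ρ := by
      intro j h1 h2 h3
      have e := (hd h2.le (Nat.zero_le m) (by rw [h3])).2 ρ hρ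
      rw [Finset.sum_congr rfl (g := fun χ : Cfsg.IrrCharacter G =>
        ((if χ = trivIrr G then -1 else 0 : ℤ) : ℂ) * (χ : G → ℂ) ρ +
        ((if χ = c1 then -d1 else 0 : ℤ) : ℂ) * (χ : G → ℂ) ρ +
        ((if χ = X j then d1 else 0 : ℤ) : ℂ) * (χ : G → ℂ) ρ) fun χ hχ => by
          rw [← Int.cast_sub, T.even_eq j h1 h2 h3 χ hχ]; push_cast; ring] at e
      simp only [Finset.sum_add_distrib] at e
      rw [hpick _ _ hoB, hpick _ _ hcB.1, hpick _ _ (hXB j h1 h2), ho1] at e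
      push_cast at e
      linear_combination e
    have eodd : ∀ j, 0 < j → j < m → j % 2 = 1 →
        (d1 : ℂ) * (X j : G → ℂ) ρ = d1 * (X 1 : G → ℂ) ρ := by
      intro j h1 h2 h3
      have e := (hd h2.le (by omega : 1 ≤ m) (by omega)).2 ρ hρ
      rw [Finset.sum_congr rfl (g := fun χ : Cfsg.IrrCharacter G =>
        ((if χ = X j then d1 else 0 : ℤ) : ℂ) * (χ : G → ℂ) ρ -
        ((if χ = X 1 then d1 else 0 : ℤ) : ℂ) * (χ : G → ℂ) ρ) fun χ hχ => by
          rw [← Int.cast_sub, T.odd_eq j h1 h2 h3 χ hχ]; push_cast; ring] at e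
      rw [Finset.sum_sub_distrib, hpick _ _ (hXB j h1 h2), hpick _ _ (hXB 1 one_pos (by omega))] at e
      exact sub_eq_zero.1 e
    have ea := hareg ρ hρ
    have hsplit : prin (G := G) M = {trivIrr G, c1, c2, c3} ∪ (Finset.Ioo 0 m).image X := by
      ext χ
      rw [T.mem]
      simp only [Finset.mem_union, Finset.mem_insert, Finset.mem_singleton, Finset.mem_image,
        Finset.mem_Ioo]
      constructor
      · rintro (e | e | e | e | ⟨j, h1, h2, rfl⟩)
        all_goals first | (left; simp [e]; done) | exact Or.inr ⟨j, ⟨h1, h2⟩, rfl⟩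
      · rintro ((e | e | e | e) | ⟨j, ⟨h1, h2⟩, rfl⟩) <;>
          first | (simp [e]; done) | exact Or.inr (Or.inr (Or.inr (Or.inr ⟨j, h1, h2, rfl⟩)))
    rw [hsplit, Finset.sum_union (by
      rw [Finset.disjoint_left]
      intro χ hχ hχ'
      obtain ⟨j, hj, rfl⟩ := Finset.mem_image.1 hχ'
      obtain ⟨n0, n1, n2, n3⟩ := T.X_ne j (Finset.mem_Ioo.1 hj).1 (Finset.mem_Ioo.1 hj).2
      simp [n0, n1, n2, n3] at hχ),
      Finset.sum_insert (by simp [T.ne1.symm, T.ne2.symm, T.ne3.symm]),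
      Finset.sum_insert (by simp [T.ne12, T.ne13]), Finset.sum_insert (by simp [T.ne23]),
      Finset.sum_singleton, Finset.sum_image fun j hj k hk e => T.X_inj j k (Finset.mem_Ioo.1 hj).1
        (Finset.mem_Ioo.1 hj).2 (Finset.mem_Ioo.1 hk).1 (Finset.mem_Ioo.1 hk).2 e,
      T.a1, T.a2, T.a3, L.a_o, ho1] at ea
    set E : ℂ := 1 + (d1 : ℂ) * (c1 : G → ℂ) ρ with hE
    set Y : ℂ := (d1 : ℂ) * (X 1 : G → ℂ) ρ with hY
    rw [Finset.sum_congr rfl (g := fun j => (E - Y) + (E + Y) * (-1 : ℂ) ^ j) fun j hj => by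
      obtain ⟨h1, h2⟩ := Finset.mem_Ioo.1 hj
      rw [T.aX j h1 h2]
      push_cast
      rcases Nat.mod_two_eq_zero_or_one j with hp | hp
      · rw [(Nat.even_iff.2 hp).neg_one_pow]
        linear_combination 2 * eev j h1 h2 hp
      · rw [(Nat.odd_iff.2 hp).neg_one_pow]
        linear_combination (-2) * eodd j h1 h2 hp,
      Finset.sum_add_distrib, Finset.sum_const, Nat.card_Ioo, ← Finset.mul_sum,
      sum_neg_one_Ioo hm hme, nsmul_eq_mul, Nat.sub_zero, Nat.cast_sub (by omega : 1 ≤ m)] at ea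
    push_cast at ea
    have hEY : E = Y := by
      have h0 : (m : ℂ) * (E - Y) = 0 := by
        rw [hE] at ea ⊢
        linear_combination ea + eΩ
      exact sub_eq_zero.1 ((mul_eq_zero.1 h0).resolve_left (Nat.cast_ne_zero.2 hm.ne'))
    intro j h1 h2
    rcases Nat.mod_two_eq_zero_or_one j with hp | hp
    · exact eev j h1 h2 hp
    · rw [eodd j h1 h2 hp]; exact hEY.symm

end Cfsg.Agent.CharTheory.DihedralPrincipal
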